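import Cfsg.Agent.H899.Asm.Odd_mg_m3
import Cfsg.Agent.H503.BG.RowsL
import Cfsg.Agent.H884.RowAllD
import Cfsg.Agent.H899.Pt.Inst_m3
import Cfsg.Agent.H537.CopRowsA_m3
import Cfsg.Agent.H537.CopHeEl
import Cfsg.Agent.H410.CopTits
import Cfsg.Agent.H868.CopHe
import Cfsg.Agent.H220.S4096.RowCo2
import Cfsg.Agent.H604.Cop.Conway
import Cfsg.Agent.H647.SpF.HSMcL
import Cfsg.Agent.S0494
import Cfsg.Agent.Lib.NormalAbelian
import Cfsg.Agent.CpAutHSFive.Row
import Cfsg.Agent.S2119
import Cfsg.Agent.S0991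
import Cfsg.Agent.H306.J2.Amb
import Mathlib
import Cfsg.Prelude.Def_Classical
import Cfsg.Agent.H427.Fc.SmD
import Cfsg.Agent.H503.El.O8Fin_m3
import Cfsg.Agent.H81.SaxSp
import Cfsg.Agent.UGT.U2.Rec.Congr
import Cfsg.Agent.Lib.PGroupFixedVector
import Cfsg.Agent.LieClassical.OrthCenter
import Cfsg.Agent.LieClassical.QuadForms
import Cfsg.Agent.H884.Oc.PTwo
import Cfsg.Agent.H953.Cyc.N9a_m3
import Cfsg.Agent.Lib.Refl
import Cfsg.Agent.FastGrp
import Cfsg.Agent.Prune
set_option linter.all false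

section
prune_inst 0x7ffeacfb6bf829deffff7e7faef4dffdf9b81fffe6dff9cbffe06bff2bdf238289c4f3ad8fe010fe1eb6c29410a87803ff7eeeffea6fdc7ffffdfff45ffbee1fe5febd08119688341f342ffff3f0778e7f3fffffffffffffffffffffffffffbeffffffffffff

-- part: H462/Fc/Rows_mg
section
prune_inst 0x10000404040000000000500100020044c00009000230000d900084000065122100007004c8018000002200000000000000000000000000000000000000000000000100000000000200000000084000000000000000000000000000000041000000000000
set_option linter.all false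
open scoped Cfsg.Agent.FastGrp

-- part: H354/Fac/SmallA
section
/-!
# `NoFac` from the order of `T` alone (helper354, S3679)

No non-abelian simple group `S` has `|S| ^ 2 ∣ |T|`.
-/

set_option autoImplicit false
set_option maxRecDepth 100000

namespace Cfsg.Agent.H354.Fac

open Cfsg
open Cfsg.Agent.OrdDiv
open Cfsg.Agent.H899.CG
open Cfsg.Agent.H257.El (Known)

variable (tab : OrderTable.{0}) (known : Known.{0}) {T : Type} [Group T]

include tab known

/-- `U4(2)`, `PSp4(3)` -/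
theorem noFac_25920 (hn : Nat.card T = 25920) : NoFac T :=
  noFac_of_half tab known (m := 72) (d := 5) (l := [(2, 3), (3, 2)]) hn (by norm_num)
    (by norm_num) (by decide +kernel) (by decide +kernel) (by decide +kernel)

/-- `L3(4)`, `L4(2)` -/
theorem noFac_20160 (hn : Nat.card T = 20160) : NoFac T :=
  noFac_of_half tab known (m := 24) (d := 35) (l := [(2, 3), (3, 1)]) hn (by norm_num)
    (by norm_num) (by decide +kernel) (by decide +kernel) (by decide +kernel)

/-- `U4(3)` -/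
theorem noFac_3265920 (hn : Nat.card T = 3265920) : NoFac T :=
  noFac_of_half tab known (m := 216) (d := 70) (l := [(2, 3), (3, 3)]) hn (by norm_num)
    (by norm_num) (by decide +kernel) (by decide +kernel) (by decide +kernel)

/-- `U5(2)` -/
theorem noFac_13685760 (hn : Nat.card T = 13685760) : NoFac T :=
  noFac_of_half tab known (m := 288) (d := 165) (l := [(2, 5), (3, 2)]) hn (by norm_num)
    (by norm_num) (by decide +kernel) (by decide +kernel) (by decide +kernel)

/-- `U6(2)` -/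
theorem noFac_9196830720 (hn : Nat.card T = 9196830720) : NoFac T :=
  noFac_of_half tab known (m := 3456) (d := 770) (l := [(2, 7), (3, 3)]) hn (by norm_num)
    (by norm_num) (by decide +kernel) (by decide +kernel) (by decide +kernel)

/-- `Sp6(2)` -/
theorem noFac_1451520 (hn : Nat.card T = 1451520) : NoFac T :=
  noFac_of_half tab known (m := 144) (d := 70) (l := [(2, 4), (3, 2)]) hn (by norm_num)
    (by norm_num) (by decide +kernel) (by decide +kernel) (by decide +kernel)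

/-- `O7(3)`, `PSp6(3)` -/
theorem noFac_4585351680 (hn : Nat.card T = 4585351680) : NoFac T :=
  noFac_of_half tab known (m := 1296) (d := 2730) (l := [(2, 4), (3, 4)]) hn (by norm_num)
    (by norm_num) (by decide +kernel) (by decide +kernel) (by decide +kernel)

end Cfsg.Agent.H354.Fac
end

-- part: H354/Fac/RealSeven
section
/-!
# Real elements of order 7 in `SL6(2)` (helper354, S3679)

An element of `⟨a, b⟩` conjugate to its inverse has centralizer in `⟨a, b⟩`.
-/

set_option autoImplicit false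
set_option maxRecDepth 100000

namespace Cfsg.Agent.H354.Fac

open Matrix Subgroup MT

/-- the class of the exponent -/
def cl (i : Fin 7) : Bool := i = 1 || i = 2 || i = 4

/-- value of the minimal polynomial of `g ^ j` -/
def pol (j : Fin 7) (m : M3) : M3 := if cl j then m ^ 3 + m + 1 else m ^ 3 + m ^ 2 + 1

theorem pol_zero : ∀ j : Fin 7, j ≠ 0 → pol j (g ^ (j : ℕ)) = 0 := by decide +kernel

theorem pol_inv : ∀ i j : Fin 7, j ≠ 0 → cl i ≠ cl j ∨ i = 0 → ∃ k : Fin 7, g ^ (k : ℕ) * pol j (g ^ (i : ℕ)) = 1 := by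
  decide +kernel

theorem pol_int {u v m : M3} (h : m * u = v * m) (j : Fin 7) : m * pol j u = pol j v * m := by
  have h2 : m * u ^ 2 = v ^ 2 * m := by
    rw [pow_two, pow_two, ← mul_assoc, h, mul_assoc, h, mul_assoc]
  have h3 : m * u ^ 3 = v ^ 3 * m := by
    rw [pow_succ u 2, pow_succ v 2, ← mul_assoc, h2, mul_assoc, h, mul_assoc]
  unfold pol
  split_ifs
  · rw [mul_add, mul_add, add_mul, add_mul, h3, h, mul_one, one_mul]
  · rw [mul_add, mul_add, add_mul, add_mul, h3, h2, mul_one, one_mul]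

/-- intertwiners of different classes vanish -/
theorem int_zero {i j : Fin 7} {m : M3} (h : m * g ^ (j : ℕ) = g ^ (i : ℕ) * m) (hj : j ≠ 0)
    (hc : cl i ≠ cl j ∨ i = 0) : m = 0 := by
  have h1 := pol_int h j
  rw [pol_zero j hj, mul_zero] at h1
  obtain ⟨k, hk⟩ := pol_inv i j hj hc
  calc m = g ^ (k : ℕ) * pol j (g ^ (i : ℕ)) * m := by rw [hk, one_mul]
    _ = 0 := by rw [mul_assoc, ← h1, mul_zero]

/-- the inverse exponent -/
def ng (i : Fin 7) : Fin 7 := -i

theorem ng_cl : ∀ i : Fin 7, i ≠ 0 → cl (ng i) ≠ cl i := by decide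

theorem g_ng : ∀ i : Fin 7, g ^ (ng i : ℕ) * g ^ (i : ℕ) = 1 := by decide +kernel

/-- `t x = x⁻¹ t` in blocks -/
theorem blocks {z : M6} {a b a' b' : M3} (h : z * D a b = D a' b' * z) :
    ∃ z1 z2 z3 z4 : M3, z = Rx (fromBlocks z1 z2 z3 z4) ∧ z1 * a = a' * z1 ∧ z2 * b = a' * z2 ∧ z3 * a = b' * z3 ∧
      z4 * b = b' * z4 := by
  obtain ⟨w, rfl⟩ := Rx.surjective z
  rw [D, D, ← map_mul, ← map_mul] at h
  have h' := Rx.injective h
  rw [← fromBlocks_toBlocks w, fromBlocks_multiply, fromBlocks_multiply, fromBlocks_inj] at h'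
  simp only [mul_zero, zero_mul, add_zero, zero_add] at h'
  exact ⟨_, _, _, _, by rw [fromBlocks_toBlocks w], h'⟩

/-- **real elements** -/
theorem real_cent {i j : Fin 7} (hij : ¬ (i = 0 ∧ j = 0)) {t y : M6} (hty : t * y = 1)
    (ht : t * D (g ^ (i : ℕ)) (g ^ (j : ℕ)) = D (g ^ (ng i : ℕ)) (g ^ (ng j : ℕ)) * t) {z : M6}
    (hz : z * D (g ^ (i : ℕ)) (g ^ (j : ℕ)) = D (g ^ (i : ℕ)) (g ^ (j : ℕ)) * z) :
    ∃ m n : M3, z = D m n ∧ m * g ^ (i : ℕ) = g ^ (i : ℕ) * m ∧ n * g ^ (j : ℕ) = g ^ (j : ℕ) * n ∧ i ≠ 0 ∧ j ≠ 0 := by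
  obtain ⟨t1, t2, t3, t4, rfl, h1, h2, h3, h4⟩ := blocks ht
  obtain ⟨z1, z2, z3, z4, rfl, k1, k2, k3, k4⟩ := blocks hz
  have hyt : y * Rx (fromBlocks t1 t2 t3 t4) = 1 := mul_eq_one_comm.1 hty
  -- no zero block column
  have col1 : ¬ (t1 = 0 ∧ t3 = 0) := by
    rintro ⟨rfl, rfl⟩
    have h5 : (y * Rx (fromBlocks 0 t2 0 t4)) * D 1 0 = D 1 0 := by rw [hyt, one_mul]
    rw [mul_assoc, D, ← map_mul, fromBlocks_multiply] at h5
    simp only [mul_zero, zero_mul, add_zero, fromBlocks_zero, map_zero] at h5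
    have h6 : D 0 0 = D 1 0 := by rw [D_zero]; exact h5
    exact absurd (D_inj h6).1 (by decide)
  have col2 : ¬ (t2 = 0 ∧ t4 = 0) := by
    rintro ⟨rfl, rfl⟩
    have h5 : (y * Rx (fromBlocks t1 0 t3 0)) * D 0 1 = D 0 1 := by rw [hyt, one_mul]
    rw [mul_assoc, D, ← map_mul, fromBlocks_multiply] at h5
    simp only [mul_zero, zero_mul, add_zero, fromBlocks_zero, map_zero] at h5
    have h6 : D 0 0 = D 0 1 := by rw [D_zero]; exact h5
    exact absurd (D_inj h6).2 (by decide)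
  have hi : i ≠ 0 := by
    rintro rfl
    have hj : j ≠ 0 := fun h => hij ⟨rfl, h⟩
    apply col2
    refine ⟨int_zero h2 hj (.inr rfl), int_zero h4 hj (.inl (ng_cl j hj))⟩
  have hj : j ≠ 0 := by
    rintro rfl
    apply col1
    exact ⟨int_zero h1 hi (.inl (ng_cl i hi)), int_zero h3 hi (.inr rfl)⟩
  have ht1 : t1 = 0 := int_zero h1 hi (.inl (ng_cl i hi))
  have ht3 : t3 ≠ 0 := fun h => col1 ⟨ht1, h⟩
  -- `g ^ i` and `g ^ (- j)` are in the same class
  have hc : cl (ng j) = cl i := by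
    by_contra hne
    exact ht3 (int_zero h3 hi (.inl hne))
  have hc2 : cl i ≠ cl j := by rw [← hc]; exact ng_cl j hj
  have hz2 : z2 = 0 := int_zero k2 hj (.inl hc2)
  have hz3 : z3 = 0 := int_zero k3 hi (.inl hc2.symm)
  subst hz2
  subst hz3
  exact ⟨z1, z4, rfl, k1, k4, hi, hj⟩

theorem pow_root : ∀ i : Fin 7, i ≠ 0 → ∃ k : Fin 7, (g ^ (i : ℕ)) ^ (k : ℕ) = g := by decide +kernel

/-- commuting with a power is commuting -/
theorem comm_pow {i : Fin 7} (hi : i ≠ 0) {m : M3} (h : m * g ^ (i : ℕ) = g ^ (i : ℕ) * m) : m * g = g * m := by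
  obtain ⟨k, hk⟩ := pow_root i hi
  have h1 : Commute m (g ^ (i : ℕ)) := h
  have h2 := h1.pow_right (k : ℕ)
  rw [hk] at h2
  exact h2

theorem D_comm_a {z : M6} {m n : M3} (h : z = D m n) (hm : m * g = g * m) : z * D g 1 = D g 1 * z := by
  rw [h, D_mul, D_mul, hm, mul_one, one_mul]

theorem D_comm_b {z : M6} {m n : M3} (h : z = D m n) (hn : n * g = g * n) : z * D 1 g = D 1 g * z := by
  rw [h, D_mul, D_mul, hn, mul_one, one_mul]

/-- **real elements of `⟨a, b⟩` in `SL6(2)`** -/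
theorem real_sl {x z t : SL6} (hx : x ∈ Q aL bL) (hx1 : x ≠ 1) (ht : t * x = x⁻¹ * t) (hz : z * x = x * z) :
    z ∈ Q aL bL := by
  obtain ⟨h1, h2, h3, h4⟩ := gd_sl_data
  obtain ⟨i', j', hij⟩ := (mem_Q h1.comm).1 hx
  -- natural exponents
  have hpa : ∃ i : Fin 7, aL ^ i' = aL ^ (i : ℕ) := by
    refine ⟨⟨(i' % 7).toNat, ?_⟩, ?_⟩
    · have := Int.emod_lt_of_pos i' (show (0 : ℤ) < 7 by norm_num)
      have := Int.emod_nonneg i' (show (7 : ℤ) ≠ 0 by norm_num)
      omega
    · have h5 : ((i' % 7).toNat : ℤ) = i' % 7 := Int.toNat_of_nonneg (Int.emod_nonneg _ (by norm_num))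
      rw [← zpow_natCast, h5]
      have h6 : ((orderOf aL : ℕ) : ℤ) = 7 := by rw [h1.oa]; rfl
      rw [← h6, zpow_mod_orderOf]
  have hpb : ∃ i : Fin 7, bL ^ j' = bL ^ (i : ℕ) := by
    refine ⟨⟨(j' % 7).toNat, ?_⟩, ?_⟩
    · have := Int.emod_lt_of_pos j' (show (0 : ℤ) < 7 by norm_num)
      have := Int.emod_nonneg j' (show (7 : ℤ) ≠ 0 by norm_num)
      omega
    · have h5 : ((j' % 7).toNat : ℤ) = j' % 7 := Int.toNat_of_nonneg (Int.emod_nonneg _ (by norm_num))
      rw [← zpow_natCast, h5]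
      have h6 : ((orderOf bL : ℕ) : ℤ) = 7 := by rw [h1.ob]; rfl
      rw [← h6, zpow_mod_orderOf]
  obtain ⟨i, hi⟩ := hpa
  obtain ⟨j, hj⟩ := hpb
  rw [hi, hj] at hij
  have hxv : (x : M6) = D (g ^ (i : ℕ)) (g ^ (j : ℕ)) := by
    rw [hij]
    change (D g 1) ^ (i : ℕ) * (D 1 g) ^ (j : ℕ) = _
    rw [D_pow, D_pow, D_mul, one_pow, one_pow, mul_one, one_mul]
  have hx0 : ¬ (i = 0 ∧ j = 0) := by
    rintro ⟨rfl, rfl⟩
    apply hx1
    rw [hij, Fin.val_zero, pow_zero, pow_zero, one_mul]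
  -- the inverse
  have htm : (t : M6) * D (g ^ (i : ℕ)) (g ^ (j : ℕ)) = D (g ^ (ng i : ℕ)) (g ^ (ng j : ℕ)) * (t : M6) := by
    have h5 : x * t * x = t := by rw [mul_assoc, ht, mul_inv_cancel_left]
    have h6 : (x : M6) * (t : M6) * (x : M6) = t := congrArg Subtype.val h5
    rw [hxv] at h6
    have h7 : D (g ^ (ng i : ℕ)) (g ^ (ng j : ℕ)) * D (g ^ (i : ℕ)) (g ^ (j : ℕ)) = 1 := by
      rw [D_mul, g_ng, g_ng, D_one]
    calc (t : M6) * D (g ^ (i : ℕ)) (g ^ (j : ℕ))
        = (D (g ^ (ng i : ℕ)) (g ^ (ng j : ℕ)) * D (g ^ (i : ℕ)) (g ^ (j : ℕ))) * ((t : M6) *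
          D (g ^ (i : ℕ)) (g ^ (j : ℕ))) := by rw [h7, one_mul]
      _ = D (g ^ (ng i : ℕ)) (g ^ (ng j : ℕ)) * (D (g ^ (i : ℕ)) (g ^ (j : ℕ)) * (t : M6) *
          D (g ^ (i : ℕ)) (g ^ (j : ℕ))) := by simp only [mul_assoc]
      _ = _ := by rw [h6]
  have hzm : (z : M6) * D (g ^ (i : ℕ)) (g ^ (j : ℕ)) = D (g ^ (i : ℕ)) (g ^ (j : ℕ)) * (z : M6) := by
    rw [← hxv]
    exact congrArg Subtype.val hz
  obtain ⟨y, hy⟩ := exists_right t
  obtain ⟨m, n, hzD, hm, hn, hi0, hj0⟩ := real_cent hx0 hy htm hzm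
  have hza : z * aL = aL * z := Subtype.ext (D_comm_a hzD (comm_pow hi0 hm))
  have hzb : z * bL = bL * z := Subtype.ext (D_comm_b hzD (comm_pow hj0 hn))
  exact gd_sl_cent z hza hzb

end Cfsg.Agent.H354.Fac
end

-- part: H354/Fac/RowL
section
/-!
# `NoFac` for `L6(2)` (helper354, S3679)
-/

set_option autoImplicit false
set_option maxRecDepth 100000

namespace Cfsg.Agent.H354.Fac

open Subgroup
open Cfsg.Agent.OrdDiv
open Cfsg.Agent.H899.CG
open Cfsg.Agent.H257.El (Known)
open Cfsg.Agent.H537.Cop (SC)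

/-- the elements of order 7 of a simple group of order 504 are real -/
theorem exists_inv {S : Type*} [Group S] [Finite S] (hS : Nat.card S = 504) (hsc : SC 7 S) {x : S}
    (hx : orderOf x = 7) : ∃ t : S, t * x = x⁻¹ * t := by
  have hp : Nat.Prime 7 := by norm_num
  have hp' : Fact (Nat.Prime 7) := ⟨hp⟩
  set N := normalizer (zpowers x : Set S) with hN
  have h1 := card_normalizer_dvd hp hsc hx
  have h2 := index_modEq_one (p := 7) (by rw [hS]; norm_num) (zpowers x) (by rw [Nat.card_zpowers, hx])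
  rw [← hN] at h1 h2
  have h3 := Subgroup.card_mul_index N
  rw [hS] at h3
  have h4 : Nat.card N = 14 := by
    have h5 : Nat.card N ∣ 42 := h1
    have h6 : Nat.card N ∈ Nat.divisors 42 := Nat.mem_divisors.2 ⟨h5, by norm_num⟩
    have h7 : N.index = 504 / Nat.card N := by
      rw [← h3, Nat.mul_div_cancel_left _ Nat.card_pos]
    rw [h7] at h2
    have h8 : ∀ m ∈ Nat.divisors 42, 504 / m ≡ 1 [MOD 7] → m = 14 := by decide +kernel
    exact h8 _ h6 h2
  have h2' : Fact (Nat.Prime 2) := ⟨Nat.prime_two⟩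
  obtain ⟨t, ht⟩ := exists_prime_orderOf_dvd_card' (G := N) 2 (by rw [h4]; norm_num)
  have htS : orderOf (t : S) = 2 := by rw [Subgroup.orderOf_coe, ht]
  have htx : (t : S) * x * (t : S)⁻¹ ∈ zpowers x := ((mem_normalizer_iff.1 t.2) x).1 (mem_zpowers x)
  obtain ⟨k, hk⟩ := mem_zpowers_iff.1 htx
  have ht2 : (t : S) * (t : S) = 1 := by rw [← pow_two, ← htS, pow_orderOf_eq_one]
  have hinv : (t : S)⁻¹ = t := inv_eq_of_mul_eq_one_right ht2
  -- `k ^ 2 = 1`
  have h5 : x ^ (k * k - 1) = 1 := by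
    have h6 : (t : S) * ((t : S) * x * (t : S)⁻¹) * (t : S)⁻¹ = x := by
      rw [hinv]
      calc (t : S) * ((t : S) * x * t) * t = (t * t) * x * (t * t) := by group
        _ = x := by rw [ht2, one_mul, mul_one]
    rw [← hk, ← conj_zpow, ← hk, ← zpow_mul] at h6
    rw [zpow_sub, h6, zpow_one, mul_inv_cancel]
  have h6 : (7 : ℤ) ∣ k * k - 1 := by
    have := orderOf_dvd_iff_zpow_eq_one.2 h5
    rwa [hx] at this
  have h7 : (7 : ℤ) ∣ (k - 1) * (k + 1) := by
    have : (k - 1) * (k + 1) = k * k - 1 := by ring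
    rw [this]; exact h6
  have h7p : Prime (7 : ℤ) := Nat.prime_iff_prime_int.1 hp
  rcases h7p.dvd_or_dvd h7 with h8 | h8
  · exfalso
    have h9 : x ^ k = x := by
      have h10 : x ^ (k - 1) = 1 := orderOf_dvd_iff_zpow_eq_one.1 (by rw [hx]; exact h8)
      calc x ^ k = x ^ (k - 1) * x := by rw [← zpow_add_one, sub_add_cancel]
        _ = x := by rw [h10, one_mul]
    rw [h9] at hk
    have h11 : (t : S) ∈ centralizer ({x} : Set S) := by
      rw [mem_centralizer_singleton_iff]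
      calc (t : S) * x = ((t : S) * x * (t : S)⁻¹) * t := by group
        _ = x * t := by rw [← hk]
    have h12 := _root_.orderOf_dvd_natCard (⟨(t : S), h11⟩ : centralizer ({x} : Set S))
    rw [hsc x hx, Subgroup.orderOf_mk, htS] at h12
    norm_num at h12
  · refine ⟨t, ?_⟩
    have h9 : x ^ k = x⁻¹ := by
      have h10 : x ^ (k + 1) = 1 := orderOf_dvd_iff_zpow_eq_one.1 (by rw [hx]; exact h8)
      calc x ^ k = x ^ (k + 1) * x⁻¹ := by rw [zpow_add_one, mul_inv_cancel_right]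
        _ = x⁻¹ := by rw [h10, one_mul]
    rw [h9] at hk
    calc (t : S) * x = ((t : S) * x * (t : S)⁻¹) * t := by group
      _ = x⁻¹ * t := by rw [← hk]

/-- **`S` of order 504 is not a factor in `SL6(2)`** -/
theorem sl_no504 {S : Type*} [Group S] [Finite S] (hS : Nat.card S = 504) (hc : Nat.card SL6 = 20158709760)
    {φ : S × S →* SL6} (hφ : Function.Injective φ) : False := by
  have hp : Nat.Prime 7 := by norm_num
  have hp' : Fact (Nat.Prime 7) := ⟨hp⟩
  have h2' : Fact (Nat.Prime 2) := ⟨Nat.prime_two⟩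
  obtain ⟨hab, -, -, -⟩ := gd_sl_data
  have h3 : ¬ 7 ^ 3 ∣ Nat.card SL6 := by rw [hc]; norm_num
  have hsc : SC 7 S := sc_of hφ hab h3 gd_sl_cent
  obtain ⟨x, hx⟩ := exists_prime_orderOf_dvd_card' (G := S) 7 (by rw [hS]; norm_num)
  obtain ⟨w, hw⟩ := exists_prime_orderOf_dvd_card' (G := S) 2 (by rw [hS]; norm_num)
  obtain ⟨t, ht⟩ := exists_inv hS hsc hx
  have hpr := pr_of hφ hp hx hx
  obtain ⟨τ, hτ⟩ := exists_conj h3 (hpr.card hp) (hab.card hp)
  set u : SL6 := τ * φ (x, 1) * τ⁻¹ with hu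
  have huQ : u ∈ Q aL bL := by
    rw [← hτ]
    exact ⟨φ (x, 1), mem_sup_left (mem_zpowers _), rfl⟩
  have hu1 : u ≠ 1 := by
    intro h
    have h1 : φ (x, 1) = 1 := by
      have : φ (x, 1) = τ⁻¹ * u * τ := by rw [hu]; group
      rw [this, h]
      group
    have h2 := hpr.oa
    rw [h1, orderOf_one] at h2
    norm_num at h2
  have hxt : φ (t, 1) * φ (x, 1) = (φ (x, 1))⁻¹ * φ (t, 1) := by
    rw [← map_inv, ← map_mul, ← map_mul]
    congr 1
    exact Prod.ext ht (by simp)
  have hxw : φ (1, w) * φ (x, 1) = φ (x, 1) * φ (1, w) := by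
    rw [← map_mul, ← map_mul]
    congr 1
    exact Prod.ext (by simp) (by simp)
  have hreal : (τ * φ (t, 1) * τ⁻¹) * u = u⁻¹ * (τ * φ (t, 1) * τ⁻¹) := by
    calc (τ * φ (t, 1) * τ⁻¹) * u = τ * (φ (t, 1) * φ (x, 1)) * τ⁻¹ := by rw [hu]; group
      _ = τ * ((φ (x, 1))⁻¹ * φ (t, 1)) * τ⁻¹ := by rw [hxt]
      _ = _ := by rw [hu]; group
  have hcom : (τ * φ (1, w) * τ⁻¹) * u = u * (τ * φ (1, w) * τ⁻¹) := by
    calc (τ * φ (1, w) * τ⁻¹) * u = τ * (φ (1, w) * φ (x, 1)) * τ⁻¹ := by rw [hu]; group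
      _ = τ * (φ (x, 1) * φ (1, w)) * τ⁻¹ := by rw [hxw]
      _ = _ := by rw [hu]; group
  have hz := real_sl huQ hu1 hreal hcom
  -- an element of `Q` has order dividing 49
  have h1 := _root_.orderOf_dvd_natCard (⟨_, hz⟩ : Q aL bL)
  rw [hab.card hp, Subgroup.orderOf_mk] at h1
  have h4 : orderOf (τ * φ (1, w) * τ⁻¹) = 2 := by
    have h5 : orderOf (φ (1, w)) = 2 := by
      rw [orderOf_injective φ hφ, ← hw]
      exact orderOf_injective (MonoidHom.inr S S) (fun a b h => congrArg Prod.snd h) w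
    exact (orderOf_injective (MulAut.conj τ).toMonoidHom (MulAut.conj τ).injective _).trans h5
  rw [h4] at h1
  norm_num at h1

/-- the factorizations of `SL6(2)` with the possible indices -/
theorem sl_false (tab : OrderTable.{0}) (known : Known.{0}) (hc : Nat.card SL6 = 20158709760)
    {S : Type} [Group S] [Finite S] (hS : IsSimpleGroup S) (hna : ¬ IsMulCommutative S) {A M : Subgroup SL6} {j : ℕ}
    (hk : M.index ∈ [63, 2016, 3969, 127008, 4064256, 130056192]) (hF : Fac SL6 A M S j) : False := by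
  have hp : Fact (Nat.Prime 7) := ⟨by norm_num⟩
  have hnm : 20158709760 = 8064 ^ 2 * 310 := by norm_num
  have hd : Squarefree 310 := by decide +kernel
  have main : ∀ {k : ℕ}, 7 ∣ k → ¬ 7 ^ 2 ∣ k → M.index = k →
      (((cands [(2, 7), (3, 2), (7, 1)] 8064).all fun g => !decide (7 ∣ ordN g) ||
        [(5, 1), (3, 2), (3, 3), (0, 0)].any (chk 7 k (ordN g))) = true) → False := by
    intro k h1 h2 h3 h4
    exact GD.false tab known gd_sl hc hnm (by norm_num) hd (by decide +kernel) (by norm_num) h1 h2 _ h4 hS hna h3 hF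
  -- the order of `S` in the other cases
  have h504 : ∀ {k : ℕ}, 7 ∣ k → M.index = k →
      (((cands [(2, 7), (3, 2), (7, 1)] 8064).all fun g => decide (ordN g = 504) ||
        !decide (k ∣ ordN g ^ 2)) = true) → False := by
    intro k h1 h2 h3
    have h7 : Nat.card S ^ 2 ∣ 8064 ^ 2 * 310 := by
      rw [← hnm, ← hc]
      exact (pow_dvd_pow _ hF.two_le).trans hF.pow_dvd_card
    obtain ⟨g, hg, -, hgS⟩ := exists_good tab (known S) (fun h => hna ⟨⟨h⟩⟩) (l := [(2, 7), (3, 2), (7, 1)])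
      (by decide +kernel) (dvd_of_sq_dvd (by norm_num) hd h7)
    have hpS : 7 ∣ Nat.card S := hp.out.dvd_of_dvd_pow ((h1.trans (h2 ▸ hF.index_dvd)))
    have hj : j = 2 := by
      have h8 := hF.two_le
      have h9 : ¬ 3 ≤ j := fun h3j => absurd (((pow_dvd_pow 7 h3j).trans (pow_dvd_pow_of_dvd hpS j)).trans
        (hc ▸ hF.pow_dvd_card)) (by norm_num)
      omega
    subst hj
    obtain ⟨φ, hφ, hr⟩ := exists_phi hF
    rw [List.all_eq_true] at h3
    have h8 := h3 g hg
    rw [← hgS, Bool.or_eq_true] at h8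
    rcases h8 with h8 | h8
    · exact sl_no504 (of_decide_eq_true h8) hc hφ
    · simp only [Bool.not_eq_true', decide_eq_false_iff_not] at h8
      exact h8 (h2 ▸ hF.index_dvd)
  simp only [List.mem_cons, List.not_mem_nil, or_false] at hk
  rcases hk with h | h | h | h | h | h
  · exact main (by norm_num) (by norm_num) h (by decide +kernel)
  · exact main (by norm_num) (by norm_num) h (by decide +kernel)
  · exact h504 (by norm_num) h (by decide +kernel)
  · exact h504 (by norm_num) h (by decide +kernel)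
  · exact h504 (by norm_num) h (by decide +kernel)
  · exact h504 (by norm_num) h (by decide +kernel)

/-- **`L6(2)`** -/
theorem noFac_psl62 (tab : OrderTable.{0}) (known : Known.{0}) (F : Type) [Field F] [Fintype F]
    (hF : Fintype.card F = 2) : NoFac (Matrix.ProjectiveSpecialLinearGroup (Fin 6) F) := by
  intro S _ _ hS hna A M j hM hfac
  have hc := H503.El.card_psl62 hF
  let e1 : Matrix.SpecialLinearGroup (Fin 6) (ZMod 2) ≃* Matrix.ProjectiveSpecialLinearGroup (Fin 6) (ZMod 2) :=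
    MulEquiv.ofBijective (QuotientGroup.mk' (center SL6))
      ⟨by rw [← MonoidHom.ker_eq_bot_iff, QuotientGroup.ker_mk', gd_sl.center_eq_bot (by norm_num)],
        QuotientGroup.mk'_surjective _⟩
  let e : SL6 ≃* Matrix.ProjectiveSpecialLinearGroup (Fin 6) F :=
    e1.trans (LieClassical.FieldTransfer.pslCongr (ZMod.ringEquivOfPrime F Nat.prime_two hF))
  have hcS : Nat.card SL6 = 20158709760 := by rw [Nat.card_congr e.toEquiv, hc]
  have hfin : Finite (Matrix.ProjectiveSpecialLinearGroup (Fin 6) F) :=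
    Nat.finite_of_card_ne_zero (by rw [hc]; norm_num)
  rcases H503.El.cgap_psl62 tab known F hF M hM.1 with h | h
  · exact hfac.not_cGap h
  · have hi : (M.map e.symm.toMonoidHom).index = M.index := by
      exact Subgroup.index_map_equiv M e.symm
    have hmul := Subgroup.card_mul_index M
    rw [hc] at hmul
    refine sl_false tab known hcS hS hna ?_ (hfac.congr e.symm)
    rw [hi]
    simp only [List.mem_cons, List.not_mem_nil, or_false] at h ⊢
    rcases h with h | h | h | h | h | h <;> rw [h] at hmul <;> (clear * - hF hmul; omega)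

end Cfsg.Agent.H354.Fac
end

-- part: H462/Fc/Rows
section
/-!
# S3679: all the rows except the alternating one (helper462)

`noFac_named` : `NoFac T` for `T` with a name `g` which is not alternating; the hypotheses `h1`, `h2`, `h3` are the
rows `PSp_2m(q)`, `Ω_2m+1(q)`, `PΩ⁺_2m(q)`, `m ≥ 4` even.
-/

set_option autoImplicit false
set_option maxRecDepth 100000

namespace Cfsg.Agent.H462.Fc

open Subgroup Cfsg Cfsg.Agent.OrdDiv Cfsg.Agent.H436 Cfsg.Agent.H899.CG
open Cfsg.Agent.H884.Row (KnownS nm_psl nm_psp nm_psu nm_oodd nm_oplus nm_ominus)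

theorem congr {T T' : Type} [Group T] [Group T'] (e : T' ≃* T) (h : NoFac T) [Finite T] : NoFac T' :=
  fun _ _ _ hS hna _ _ _ _ hF => h.out e hS hna hF

/-- **`PSL_n(q)`, `n ≥ 4`** -/
theorem noFac_psl (tab : OrderTable.{0}) (hK : KnownS) {F : Type} [Field F] [Fintype F] {n : ℕ} (hn : 4 ≤ n) :
    NoFac (Matrix.ProjectiveSpecialLinearGroup (Fin n) F) := by
  have hN := nm_psl F (n := n) (by omega) (by omega)
  by_cases h4 : Fintype.card F = 2 ∧ n = 4
  · obtain ⟨h2, rfl⟩ := h4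
    rw [h2] at hN
    exact H354.Fac.noFac_20160 tab hK (hN.ord.trans (by decide +kernel))
  by_cases h6 : Fintype.card F = 2 ∧ n = 6
  · obtain ⟨h2, rfl⟩ := h6
    exact H354.Fac.noFac_psl62 tab hK F h2
  exact noFac_of_iGap fun M hM => H884.Row.row_psl tab hK hn h4 h6 hM

/-- **`PSU_n(q)`, `n ≥ 4`** -/
theorem noFac_psu (tab : OrderTable.{0}) (hK : KnownS) {F : Type} [Field F] [Fintype F] {n q : ℕ}
    (hF : Fintype.card F = q ^ 2) (hn : 4 ≤ n) : NoFac (PSU n F q) := by
  have hN := nm_psu F hF (n := n) (by omega) (by omega)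
  by_cases h2 : q = 2 ∧ n ≤ 6
  · obtain ⟨rfl, h6⟩ := h2
    interval_cases n
    · exact H354.Fac.noFac_25920 tab hK (hN.ord.trans (by decide +kernel))
    · exact H354.Fac.noFac_13685760 tab hK (hN.ord.trans (by decide +kernel))
    · exact H354.Fac.noFac_9196830720 tab hK (hN.ord.trans (by decide +kernel))
  by_cases h3 : n = 4 ∧ q = 3
  · obtain ⟨rfl, rfl⟩ := h3
    exact H354.Fac.noFac_3265920 tab hK (hN.ord.trans (by decide +kernel))
  exact noFac_of_iGap fun M hM => H884.Row.row_psu' tab hK hF hn h2 h3 hM.1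

/-- **`PSp_2m(q)`, `m ≥ 3` odd** -/
theorem noFac_psp (tab : OrderTable.{0}) (hK : KnownS) {F : Type} [Field F] [Fintype F] {m : ℕ}
    (hm : 3 ≤ m) (ho : Odd m) : NoFac (PSp m F) := by
  have hN := nm_psp F (n := m) (by omega) (by omega)
  by_cases h32 : m = 3 ∧ Fintype.card F = 2
  · obtain ⟨rfl, h2⟩ := h32
    rw [h2] at hN
    exact H354.Fac.noFac_1451520 tab hK (hN.ord.trans (by decide +kernel))
  refine noFac_of_iGap fun M hM => ?_
  rcases H884.Row.row_psp tab hK hm h32 hM.1 with h | ⟨h, -⟩ | ⟨h, -⟩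
  · exact h
  · exact absurd h (Nat.not_even_iff_odd.2 ho)
  · exact absurd h (Nat.not_even_iff_odd.2 ho)

/-- **`Ω_{2m+1}(q)`, `m ≥ 3` odd** -/
theorem noFac_oodd (tab : OrderTable.{0}) (hK : KnownS) {F : Type} [Field F] [Fintype F] {m : ℕ}
    (hodd : Odd (Fintype.card F)) (hm : 3 ≤ m) (ho : Odd m) : NoFac (POmega F (quadFormOdd m F)) := by
  have hN := nm_oodd F (n := m) hm hodd
  by_cases h33 : m = 3 ∧ Fintype.card F = 3
  · obtain ⟨rfl, h3⟩ := h33
    rw [h3] at hN
    exact H354.Fac.noFac_4585351680 tab hK (hN.ord.trans (by decide +kernel))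
  refine noFac_of_iGap fun M hM => ?_
  rcases H884.Row.row_oodd tab hK hm hodd h33 hM.1 with h | ⟨h, -⟩ | ⟨h, -⟩
  · exact h
  · exact absurd h (Nat.not_even_iff_odd.2 ho)
  · exact absurd h (Nat.not_even_iff_odd.2 ho)

/-- **`PΩ⁺_{2m}(q)`, `m ≥ 5` odd** -/
theorem noFac_oplus (tab : OrderTable.{0}) (hK : KnownS) {F : Type} [Field F] [Fintype F] {m : ℕ}
    (hm : 5 ≤ m) (ho : Odd m) : NoFac (POmega F (quadFormPlus m F)) := by
  refine noFac_of_iGap fun M hM => ?_
  rcases H884.Row.row_oplus tab hK hm hM.1 with h | ⟨h, -⟩ | ⟨h, -⟩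
  · exact h
  · exact absurd h (Nat.not_even_iff_odd.2 ho)
  · exact absurd h (Nat.not_even_iff_odd.2 ho)

/-- **`PΩ⁻_{2m}(q)`, `m ≥ 4`** -/
theorem noFac_ominus (tab : OrderTable.{0}) (hK : KnownS) {F : Type} [Field F] [Fintype F] {m : ℕ} (hm : 4 ≤ m)
    {a b : F} (hab : ∀ z₁ z₂ : F, z₁ ^ 2 + a * z₁ * z₂ + b * z₂ ^ 2 = 0 → z₁ = 0 ∧ z₂ = 0) :
    NoFac (POmega F (quadFormMinus (m - 1) F a b)) :=
  noFac_of_iGap fun _ hM => H884.Row.row_ominus tab hK hm hab hM.1

/-- **`G₂(3)`** -/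
theorem noFac_4245696 (tab : OrderTable.{0}) (hK : KnownS) {T : Type} [Group T] (hn : Nat.card T = 4245696) :
    NoFac T :=
  H354.Fac.noFac_of_half tab hK (m := 216) (d := 91) (l := [(2, 3), (3, 3)]) hn (by norm_num)
    (by norm_num) (by decide +kernel) (by decide +kernel) (by decide +kernel)

/-- **`G₂(4)`**: `S` has order 60 -/
theorem card_S_of_g24 (tab : OrderTable.{0}) (hK : KnownS) {T : Type} [Group T] [Finite T]
    (hn : Nat.card T = 251596800) {S : Type} [Group S] [Finite S] (hS : IsSimpleGroup S)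
    (hna : ¬ IsMulCommutative S) {A M : Subgroup T} {l : ℕ} (h : Fac T A M S l) : l = 2 ∧ Nat.card S = 60 := by
  have h1 := h.pow_dvd_card
  rw [hn] at h1
  have h2 : Nat.card S ∣ 960 := by
    refine H354.Fac.dvd_of_sq_dvd (d := 273) (by norm_num) (by decide +kernel) ?_
    exact (pow_dvd_pow _ h.two_le).trans (by simpa only [_root_.Nat.reducePow, _root_.Nat.reduceMul] using h1)
  obtain ⟨g, hg, -, h3⟩ := exists_good tab (hK S) (fun h => hna ⟨⟨h⟩⟩)
    (l := [(2, 6), (3, 1), (5, 1)]) (by decide +kernel) h2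
  have h4 : ∀ g ∈ cands [(2, 6), (3, 1), (5, 1)] 960, ordN g = 60 := by
    decide +kernel
  have h5 : Nat.card S = 60 := by rw [h3, h4 g hg]
  refine ⟨?_, h5⟩
  by_contra hl
  have h6 : 3 ≤ l := by have := h.two_le; omega
  rw [h5] at h1
  have h7 : 60 ^ 3 ∣ 251596800 := (pow_dvd_pow _ h6).trans h1
  revert h7
  norm_num

theorem noFac_g24 (tab : OrderTable.{0}) (hK : KnownS) {T : Type} [Group T] [Finite T]
    (hn : Nat.card T = 251596800) (hM : ∀ M : Subgroup T, IsCoatom M → IGap T M ∨ Nat.card M = 1092) : NoFac T := by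
  intro S _ _ hS hna A M l hMc h
  obtain ⟨rfl, h5⟩ := card_S_of_g24 tab hK hn hS hna h
  rcases hM M hMc with h1 | h1
  · exact h.not_iGap h1
  · have h2 := M.card_mul_index
    rw [h1, hn] at h2
    have h3 := h.index_dvd
    rw [h5, show M.index = 230400 by omega] at h3
    revert h3
    norm_num

end Cfsg.Agent.H462.Fc
end

-- part: H505/Fac/Gen
section
/-!
# Factorizations `T = A B`, `A ≅ S^l`: a numerical criterion (helper505, for S3679)

* `cent_dvd` : an element `x` of prime order `r` of a factor: `r |S|^(l-1)` divides `|C_T(x)|`;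
* `mem_of_chk` : the pair `(|S|, l)` belongs to a list of exceptions `ex`;
* `noFac_of_chk` : the case `ex = []`.
-/

set_option autoImplicit false

namespace Cfsg.Agent.H505.Fac

open Subgroup Cfsg Cfsg.Agent.H899.CG Cfsg.Agent.H537.Cop Cfsg.Agent.OrdDiv

section basic

variable {T : Type*} [Group T] [Finite T] {A B : Subgroup T} {S : Type*} [Group S] [Finite S] {l : ℕ}

/-- the centralizer of an element of a factor in a direct power -/
theorem card_cent_single {n : ℕ} (i : Fin n) (x : S) :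
    Nat.card (centralizer ({Pi.mulSingle (M := fun _ => S) i x} : Set (Fin n → S))) =
      Nat.card S ^ (n - 1) * Nat.card (centralizer ({x} : Set S)) := by
  have h1 : centralizer ({Pi.mulSingle (M := fun _ => S) i x} : Set (Fin n → S)) =
      (centralizer ({x} : Set S)).comap (Pi.evalMonoidHom (fun _ : Fin n => S) i) := by
    ext f
    rw [mem_centralizer_singleton_iff, mem_comap, mem_centralizer_singleton_iff]
    constructor
    · intro h
      have := congrFun h i
      rwa [Pi.mul_apply, Pi.mul_apply, Pi.mulSingle_eq_same] at this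
    · intro h
      funext j
      rw [Pi.mul_apply, Pi.mul_apply]
      by_cases hj : j = i
      · subst hj
        rw [Pi.mulSingle_eq_same]
        exact h
      · rw [Pi.mulSingle_eq_of_ne (M := fun _ => S) hj, mul_one, one_mul]
  have h2 : Function.Surjective (Pi.evalMonoidHom (fun _ : Fin n => S) i) := fun s =>
    ⟨Pi.mulSingle (M := fun _ => S) i s, Pi.mulSingle_eq_same (M := fun _ => S) i s⟩
  have h3 := (centralizer ({x} : Set S)).index_comap_of_surjective h2
  have h4 := (centralizer ({Pi.mulSingle (M := fun _ => S) i x} : Set (Fin n → S))).card_mul_index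
  have h5 := (centralizer ({x} : Set S)).card_mul_index
  rw [← h1] at h3
  rw [h3] at h4
  have h6 : Nat.card (Fin n → S) = Nat.card S ^ n := by
    rw [Nat.card_pi]
    simp only [Finset.prod_const, Finset.card_univ, Fintype.card_fin]
  have hn : n = (n - 1) + 1 := by
    have := i.pos
    omega
  have h8 : Nat.card S ^ n = Nat.card S ^ (n - 1) * Nat.card S := by rw [← pow_succ, ← hn]
  rw [h6, h8] at h4
  have h7 : (centralizer ({x} : Set S)).index ≠ 0 := FiniteIndex.index_ne_zero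
  refine Nat.eq_of_mul_eq_mul_right (Nat.pos_of_ne_zero h7) (h4.trans ?_)
  rw [mul_assoc, h5]

omit [Finite T] in
/-- elements of prime order of a factor -/
theorem cent_dvd (h : Fac T A B S l) {r : ℕ} (hr : r.Prime) (hrS : r ∣ Nat.card S) :
    ∃ x : T, orderOf x = r ∧ r * Nat.card S ^ (l - 1) ∣ Nat.card (centralizer ({x} : Set T)) := by
  have : Fact r.Prime := ⟨hr⟩
  obtain ⟨e⟩ := h.iso
  have h2 := h.two_le
  obtain ⟨s, hs⟩ := exists_prime_orderOf_dvd_card' r hrS
  let i : Fin l := ⟨0, by omega⟩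
  let φ : (Fin l → S) →* T := A.subtype.comp e.symm.toMonoidHom
  have hφ : Function.Injective φ := A.subtype_injective.comp e.symm.injective
  refine ⟨φ (Pi.mulSingle i s), ?_, ?_⟩
  · rw [orderOf_injective φ hφ, ← hs]
    exact orderOf_injective (MonoidHom.mulSingle (fun _ : Fin l => S) i)
      (Pi.mulSingle_injective (M := fun _ => S) i) s
  · have h3 : Nat.card (centralizer ({Pi.mulSingle (M := fun _ => S) i s} : Set (Fin l → S))) ∣
        Nat.card (centralizer ({φ (Pi.mulSingle (M := fun _ => S) i s)} : Set T)) := by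
      rw [Nat.card_congr ((centralizer ({Pi.mulSingle (M := fun _ => S) i s} : Set (Fin l → S))).equivMapOfInjective
        φ hφ).toEquiv]
      apply card_dvd_of_le
      rintro _ ⟨y, hy, rfl⟩
      rw [mem_centralizer_singleton_iff, ← map_mul, mem_centralizer_singleton_iff.1 hy, map_mul]
    refine dvd_trans ?_ h3
    rw [card_cent_single, mul_comm]
    refine Nat.mul_dvd_mul_left _ ?_
    have h4 := _root_.orderOf_dvd_natCard (⟨s, mem_centralizer_singleton_iff.2 rfl⟩ : centralizer ({s} : Set S))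
    rwa [Subgroup.orderOf_mk, hs] at h4

end basic

/-! ### The criterion -/

/-- the largest exponent -/
def mx (l : List (ℕ × ℕ)) : ℕ := l.foldr (fun x m => max x.2 m) 0

theorem le_mx {l : List (ℕ × ℕ)} {x : ℕ × ℕ} (h : x ∈ l) : x.2 ≤ mx l := by
  induction l with
  | nil => exact absurd h List.not_mem_nil
  | cons y l ih =>
    show x.2 ≤ max y.2 (mx l)
    rcases List.mem_cons.1 h with rfl | h
    · exact le_max_left _ _
    · exact (ih h).trans (le_max_right _ _)

/-- the pair is killed by a bound for centralizers -/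
def killC (cb : List (ℕ × ℕ × ℕ)) (s k : ℕ) : Bool :=
  cb.any fun t => and (Nat.beq (s % t.1) 0) (Nat.beq (t.1 * s ^ (k - 1) % t.2.1 ^ (t.2.2 + 1)) 0)

/-- the pair is killed by the orders of the subgroups -/
def killS (sc : List ℕ) (N : ℕ) (l : List (ℕ × ℕ)) (s k : ℕ) : Bool :=
  sc.any fun p => and (!Nat.beq (s % p) 0) ((ords p N l).all fun n => !Nat.beq (s ^ k % (N / n)) 0)

def chkF (N : ℕ) (l : List (ℕ × ℕ)) (sc : List ℕ) (cb : List (ℕ × ℕ × ℕ)) (ex : List (ℕ × ℕ)) : Bool :=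
  (cands l N).all fun g => (List.range (mx l + 1)).all fun k => or (Nat.ble k 1)
    (or (!Nat.beq (N % ordN g ^ k) 0) (or (killC cb (ordN g) k) (or (killS sc N l (ordN g) k)
      (ex.any fun x => and (Nat.beq x.1 (ordN g)) (Nat.beq x.2 k)))))

theorem mem_of_chk (hk : ∀ (K : Type) [Group K] [Finite K] [IsSimpleGroup K], IsKnownSimple' K)
    {T : Type} [Group T] [Finite T] {N : ℕ} {l : List (ℕ × ℕ)} {sc : List ℕ} {cb : List (ℕ × ℕ × ℕ)}
    {ex : List (ℕ × ℕ)} (hT : Nat.card T = N) (hv : valid l N = true) (hnd : nd l = true)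
    (hsc : ∀ p ∈ sc, p.Prime ∧ SC p T) (hsq : (sc.all fun p => and (Nat.beq (N % p) 0) (!Nat.beq (N % p ^ 2) 0)) = true)
    (hcb : ∀ t ∈ cb, t.1.Prime ∧ CB t.1 t.2.1 t.2.2 T)
    (hchk : chkF N l sc cb ex = true) {S : Type} [Group S] [Finite S] (hS : IsSimpleGroup S)
    (hSn : ¬ IsMulCommutative S) {A B : Subgroup T} {k : ℕ} (hF : Fac T A B S k) : (Nat.card S, k) ∈ ex := by
  have hcomm : ¬ ∀ a b : S, a * b = b * a := fun h => hSn ⟨⟨h⟩⟩
  have hk2 := hF.two_le
  have hpd : Nat.card S ^ k ∣ N := hT ▸ hF.pow_dvd_card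
  have hSN : Nat.card S ∣ N := (dvd_pow_self _ (by omega)).trans hpd
  obtain ⟨g, h1, -, h3⟩ := exists_good table (hk S) hcomm hv hSN
  have hS1 : 1 < Nat.card S := by
    have := hS.toNontrivial
    exact Finite.one_lt_card
  have hkm : k ≤ mx l := by
    obtain ⟨r, hr, hrL⟩ := Nat.exists_prime_and_dvd hS1.ne'
    obtain ⟨j, hj, hkj⟩ := exists_pair hv hr (Nat.one_le_iff_ne_zero.2 (by omega : k ≠ 0))
      ((pow_dvd_pow_of_dvd hrL k).trans hpd)
    exact hkj.trans (le_mx hj)
  unfold chkF at hchk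
  have h4 := List.all_eq_true.1 (List.all_eq_true.1 hchk g h1) k (List.mem_range.2 (by omega))
  rw [← h3, Bool.or_eq_true, Bool.or_eq_true, Bool.or_eq_true, Bool.or_eq_true] at h4
  rcases h4 with h4 | h4 | h4 | h4 | h4
  · have := Nat.le_of_ble_eq_true h4
    omega
  · rw [Nat.mod_eq_zero_of_dvd hpd] at h4
    exact absurd h4 (by decide)
  · -- centralizers
    exfalso
    unfold killC at h4
    obtain ⟨t, ht, h5⟩ := List.any_eq_true.1 h4
    rw [Bool.and_eq_true] at h5
    obtain ⟨x, hx, hd⟩ := cent_dvd hF (hcb t ht).1 (Nat.dvd_of_mod_eq_zero (Nat.eq_of_beq_eq_true h5.1))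
    exact (hcb t ht).2 x hx ((Nat.dvd_of_mod_eq_zero (Nat.eq_of_beq_eq_true h5.2)).trans hd)
  · -- orders
    exfalso
    unfold killS at h4
    obtain ⟨p, hp, h5⟩ := List.any_eq_true.1 h4
    rw [Bool.and_eq_true] at h5
    have hq := List.all_eq_true.1 hsq p hp
    rw [Bool.and_eq_true] at hq
    have hpN : p ∣ N := Nat.dvd_of_mod_eq_zero (Nat.eq_of_beq_eq_true hq.1)
    have hpp : ¬ p ^ 2 ∣ N := fun h => by
      have h6 := hq.2
      rw [Nat.mod_eq_zero_of_dvd h] at h6
      exact absurd h6 (by decide)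
    have hcyc : CycW T p := (cyc_of_sq (hsc p hp).1 (hT ▸ hpN) (by rw [hT]; exact hpp)).1
    have h7 := mem_ords hk (hsc p hp).1 hT hv hnd hpp (hsc p hp).2 hF.ne_top (hF.dvd hcyc)
    have h8 := List.all_eq_true.1 h5.2 _ h7
    rw [← index_eq hT, Nat.mod_eq_zero_of_dvd hF.index_dvd] at h8
    exact absurd h8 (by decide)
  · obtain ⟨x, hx, h5⟩ := List.any_eq_true.1 h4
    rw [Bool.and_eq_true] at h5
    have h6 := Nat.eq_of_beq_eq_true h5.1
    have h7 := Nat.eq_of_beq_eq_true h5.2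
    rw [← h6, ← h7]
    exact hx

theorem noFac_of_chk (hk : ∀ (K : Type) [Group K] [Finite K] [IsSimpleGroup K], IsKnownSimple' K)
    {T : Type} [Group T] [Finite T] {N : ℕ} {l : List (ℕ × ℕ)} {sc : List ℕ} {cb : List (ℕ × ℕ × ℕ)}
    (hT : Nat.card T = N) (hv : valid l N = true) (hnd : nd l = true)
    (hsc : ∀ p ∈ sc, p.Prime ∧ SC p T) (hsq : (sc.all fun p => and (Nat.beq (N % p) 0) (!Nat.beq (N % p ^ 2) 0)) = true)
    (hcb : ∀ t ∈ cb, t.1.Prime ∧ CB t.1 t.2.1 t.2.2 T) (hchk : chkF N l sc cb [] = true) : NoFac T :=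
  fun _ _ _ hS hSn _ _ _ _ hF => absurd (mem_of_chk hk hT hv hnd hsc hsq hcb hchk hS hSn hF) List.not_mem_nil

end Cfsg.Agent.H505.Fac
end

-- part: H505/Fac/RowsA
section
/-!
# `NoFac T` for the Tits group, `He`, `Co₂`, `Co₃` (helper505, for S3679)

`mcl_sixty` : the only possible factors of `McL` are `S × S`, `|S| = 60`.
-/

set_option autoImplicit false
set_option maxRecDepth 100000

namespace Cfsg.Agent.H505.Fac

open Subgroup Cfsg Cfsg.Agent.H899.CG Cfsg.Agent.H537.Cop Cfsg.Agent.OrdDiv Cfsg.Agent.H393.Sp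

/-! ### The Tits group -/

theorem chk_tits : chkF 17971200 [(2, 11), (3, 3), (5, 2), (13, 1)] [] [(5, 2, 1)] [] = true := by decide +kernel

theorem noFac_tits (hk : Known.{0}) {T : Type} [Group T] (h : Lie.IsoTits T) : NoFac T := by
  have hc : Nat.card T = 17971200 := NotCT.Orders.tits h
  have : Finite T := Nat.finite_of_card_ne_zero (by rw [hc]; norm_num)
  refine noFac_of_chk hk hc valid_tits (by decide) (fun p hp => absurd hp List.not_mem_nil) rfl ?_ chk_tits
  simp only [List.mem_cons, List.not_mem_nil, or_false]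
  rintro t rfl
  exact ⟨by norm_num, Cfsg.Agent.H410.CopTits.cb_five_two h⟩

/-! ### `He` -/

theorem chk_he : chkF 4030387200 [(2, 10), (3, 3), (5, 2), (7, 3), (17, 1)] [17] [(7, 2, 3)] [] = true := by
  decide +kernel

theorem noFac_he (hk : Known.{0}) {T : Type} [Group T] (h : Spor.IsoHe T) : NoFac T := by
  have hc : Nat.card T = 4030387200 := NotCT.Orders.he h
  have : Finite T := Nat.finite_of_card_ne_zero (by rw [hc]; norm_num)
  obtain ⟨e⟩ := h
  refine noFac_of_chk hk hc valid_he (by decide) ?_ (by decide) ?_ chk_he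
  · simp only [List.mem_cons, List.not_mem_nil, or_false]
    rintro q rfl
    exact ⟨by norm_num, SC.congr e he_17⟩
  · simp only [List.mem_cons, List.not_mem_nil, or_false]
    rintro t rfl
    exact ⟨by norm_num, CB.congr e Cfsg.Agent.H868.CopHe.cb_seven_two⟩

/-! ### `Co₂` -/

theorem chk_co2 : chkF 42305421312000 [(2, 18), (3, 6), (5, 3), (7, 1), (11, 1), (23, 1)] [23]
    [(3, 5, 1), (5, 3, 1)] [] = true := by decide +kernel

theorem noFac_co2 (hk : Known.{0}) {T : Type} [Group T] (h : Spor.IsoCo2 T) : NoFac T := by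
  have hc : Nat.card T = 42305421312000 := NotCT.Orders.co2 h
  have : Finite T := Nat.finite_of_card_ne_zero (by rw [hc]; norm_num)
  obtain ⟨e⟩ := h
  refine noFac_of_chk hk hc valid_co2 (by decide) ?_ (by decide) ?_ chk_co2
  · simp only [List.mem_cons, List.not_mem_nil, or_false]
    rintro q rfl
    exact ⟨by norm_num, SC.congr e Cfsg.Agent.H604.Cop.Conway.self_co2⟩
  · simp only [List.mem_cons, List.not_mem_nil, or_false]
    rintro t (rfl | rfl)
    · exact ⟨by norm_num, CB.congr e Cfsg.Agent.H149.Sp.CopCo.co2_3_5⟩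
    · exact ⟨by norm_num, CB.congr e Cfsg.Agent.H149.Sp.CopCo.co2_5_3⟩

/-! ### `Co₃` -/

theorem chk_co3 : chkF 495766656000 [(2, 10), (3, 7), (5, 3), (7, 1), (11, 1), (23, 1)] [23]
    [(3, 5, 1), (5, 3, 1)] [] = true := by decide +kernel

theorem noFac_co3 (hk : Known.{0}) {T : Type} [Group T] (h : Spor.IsoCo3 T) : NoFac T := by
  have hc : Nat.card T = 495766656000 := NotCT.Orders.co3 h
  have : Finite T := Nat.finite_of_card_ne_zero (by rw [hc]; norm_num)
  obtain ⟨e⟩ := h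
  refine noFac_of_chk hk hc valid_co3 (by decide) ?_ (by decide) ?_ chk_co3
  · simp only [List.mem_cons, List.not_mem_nil, or_false]
    rintro q rfl
    exact ⟨by norm_num, SC.congr e Cfsg.Agent.H604.Cop.Conway.self_co3⟩
  · simp only [List.mem_cons, List.not_mem_nil, or_false]
    rintro t (rfl | rfl)
    · exact ⟨by norm_num, CB.congr e Cfsg.Agent.H149.Sp.CopCo.co3_3_5⟩
    · exact ⟨by norm_num, CB.congr e Cfsg.Agent.H149.Sp.CopCo.co3_5_3⟩

/-! ### `McL`, `HS`, `J₂`: reduction to `|S| = 60`, `l = 2` -/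

theorem chk_mcl : chkF 898128000 [(2, 7), (3, 6), (5, 3), (7, 1), (11, 1)] [] [(3, 5, 1), (5, 3, 1)]
    [(60, 2)] = true := by decide +kernel

theorem mcl_sixty (hk : Known.{0}) {T : Type} [Group T] (h : Spor.IsoMcL T) {S : Type} [Group S] [Finite S]
    (hS : IsSimpleGroup S) (hSn : ¬ IsMulCommutative S) {A B : Subgroup T} {k : ℕ} (hF : Fac T A B S k) :
    Nat.card S = 60 := by
  have hc : Nat.card T = 898128000 := NotCT.Orders.mcl h
  have : Finite T := Nat.finite_of_card_ne_zero (by rw [hc]; norm_num)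
  obtain ⟨e⟩ := h
  have h1 := mem_of_chk hk hc valid_mcl (by decide) (fun p hp => absurd hp List.not_mem_nil) rfl ?_ chk_mcl hS hSn hF
  · simp only [List.mem_cons, List.not_mem_nil, or_false, Prod.mk.injEq] at h1
    exact h1.1
  · simp only [List.mem_cons, List.not_mem_nil, or_false]
    rintro t (rfl | rfl)
    · exact ⟨by norm_num, CB.congr e Cfsg.Agent.H647.SpF.McL.cb_three_five'⟩
    · exact ⟨by norm_num, CB.congr e Cfsg.Agent.H647.SpF.McL.cb_five_three⟩

theorem chk_hs : chkF 44352000 [(2, 9), (3, 2), (5, 3), (7, 1), (11, 1)] [] [] [(60, 2)] = true := by decide +kernel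

theorem hs_sixty (hk : Known.{0}) {T : Type} [Group T] (h : Spor.IsoHS T) {S : Type} [Group S] [Finite S]
    (hS : IsSimpleGroup S) (hSn : ¬ IsMulCommutative S) {A B : Subgroup T} {k : ℕ} (hF : Fac T A B S k) :
    Nat.card S = 60 := by
  have hc : Nat.card T = 44352000 := NotCT.Orders.hs h
  have : Finite T := Nat.finite_of_card_ne_zero (by rw [hc]; norm_num)
  have h1 := mem_of_chk hk hc valid_hs (by decide) (fun p hp => absurd hp List.not_mem_nil) rfl
    (fun p hp => absurd hp List.not_mem_nil) chk_hs hS hSn hF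
  simp only [List.mem_cons, List.not_mem_nil, or_false, Prod.mk.injEq] at h1
  exact h1.1

theorem chk_j2 : chkF 604800 [(2, 7), (3, 3), (5, 2), (7, 1)] [] [] [(60, 2)] = true := by decide +kernel

theorem j2_sixty (hk : Known.{0}) {T : Type} [Group T] (h : Spor.IsoJ2 T) {S : Type} [Group S] [Finite S]
    (hS : IsSimpleGroup S) (hSn : ¬ IsMulCommutative S) {A B : Subgroup T} {k : ℕ} (hF : Fac T A B S k) :
    Nat.card S = 60 := by
  have hc : Nat.card T = 604800 := NotCT.Orders.j2 h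
  have : Finite T := Nat.finite_of_card_ne_zero (by rw [hc]; norm_num)
  have h1 := mem_of_chk hk hc valid_j2 (by decide) (fun p hp => absurd hp List.not_mem_nil) rfl
    (fun p hp => absurd hp List.not_mem_nil) chk_j2 hS hSn hF
  simp only [List.mem_cons, List.not_mem_nil, or_false, Prod.mk.injEq] at h1
  exact h1.1

end Cfsg.Agent.H505.Fac
end

-- part: H505/Fac/McL
section
/-!
# `NoFac McL` (helper505, for S3679)

`A₅ × A₅` is not a subgroup of `McL`: for commuting involutions `t`, `s` of the first factor and `x` of order 5 in the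
second one, the images of `s` and `x` in `C(t) / ⟨t⟩ ≅ A₈` commute.
-/

set_option autoImplicit false

namespace Cfsg.Agent.H505.Fac

open Subgroup Cfsg Cfsg.Agent.H899.CG Cfsg.Agent.H537.Cop Cfsg.Agent.TypeM.Two Cfsg.Agent.SporRec.TwoAn
open Equiv

/-! ### elements of `A₅` -/

/-- an element of order 5 -/
def c5 : alternatingGroup (Fin 5) := ⟨c[0, 1, 2, 3, 4], Equiv.Perm.mem_alternatingGroup.2 (by decide)⟩

/-- an involution inverting `c5` -/
def c2 : alternatingGroup (Fin 5) := ⟨c[1, 4] * c[2, 3], Equiv.Perm.mem_alternatingGroup.2 (by decide)⟩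

/-- an involution commuting with `c2` -/
def c2' : alternatingGroup (Fin 5) := ⟨c[1, 2] * c[3, 4], Equiv.Perm.mem_alternatingGroup.2 (by decide)⟩

theorem c5_pow : c5 ^ 5 = 1 := by decide +kernel
theorem c5_ne : c5 ≠ 1 := by decide +kernel
theorem c2_mul : c2 * c2 = 1 := by decide +kernel
theorem c2_ne : c2 ≠ 1 := by decide +kernel
theorem c2'_mul : c2' * c2' = 1 := by decide +kernel
theorem c2'_ne : c2' ≠ 1 := by decide +kernel
theorem c2'_ne' : c2' ≠ c2 := by decide +kernel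
theorem c2_comm : c2 * c2' = c2' * c2 := by decide +kernel
theorem c2_c5 : c2 * c5 * c2⁻¹ = c5⁻¹ := by decide +kernel

theorem orderOf_c5 : orderOf c5 = 5 := by
  have : Fact (Nat.Prime 5) := ⟨by norm_num⟩
  exact orderOf_eq_prime c5_pow c5_ne

/-- two copies of `A₅` -/
theorem exists_alt {T : Type*} [Group T] {A B : Subgroup T} {S : Type*} [Group S] [Finite S] {k : ℕ}
    (h : Fac T A B S k) (hS : IsSimpleGroup S) (h60 : Nat.card S = 60) :
    ∃ φ : alternatingGroup (Fin 5) × alternatingGroup (Fin 5) →* T, Function.Injective φ := by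
  obtain ⟨φ, hφ, -⟩ := h.exists_hom
  obtain ⟨e⟩ := Cfsg.Agent.S0494.result (G := S) h60
  exact ⟨φ.comp (MulEquiv.prodCongr e.symm e.symm).toMonoidHom, hφ.comp (MulEquiv.prodCongr e.symm e.symm).injective⟩

/-- An even involution of `S_8` does not commute with a group of order divisible by five. -/
theorem not_five (r : Perm (Fin 8)) (hs : Equiv.Perm.sign r = 1) (hr : orderOf r = 2) :
    ¬ 5 ∣ Nat.card (centralizer ({r} : Set (Perm (Fin 8)))) := by
  obtain ⟨n, hn⟩ := Equiv.Perm.cycleType_prime_order (σ := r) (by rw [hr]; exact Nat.prime_two)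
  rw [hr] at hn
  have h1 := Equiv.Perm.sign_of_cycleType r
  have h2 := Equiv.Perm.sum_cycleType_le r
  rw [hs, hn] at h1
  rw [hn, Fintype.card_fin, Multiset.sum_replicate] at h2
  rw [Multiset.sum_replicate, Multiset.card_replicate] at h1
  have h3 : n + 1 ≤ 4 := by
    simp only [smul_eq_mul] at h2
    omega
  have h4 : n = 1 ∨ n = 3 := by
    have h5 : n < 4 := by omega
    interval_cases n
    · exfalso; revert h1; decide
    · exact Or.inl rfl
    · exfalso; revert h1; decide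
    · exact Or.inr rfl
  rw [Equiv.Perm.nat_card_centralizer, hn, Fintype.card_fin]
  rcases h4 with rfl | rfl
  · simp only [_root_.Nat.reduceAdd, _root_.Multiset.replicate_succ, _root_.Multiset.replicate_zero, _root_.Multiset.cons_zero, _root_.Multiset.sum_cons, _root_.Multiset.sum_singleton, _root_.Nat.reduceSub, _root_.Multiset.prod_cons, _root_.Multiset.prod_singleton, _root_.Nat.reduceMul, _root_.Multiset.toFinset_cons, _root_.Multiset.toFinset_singleton, _root_.Finset.mem_singleton, _root_.Finset.insert_eq_of_mem, _root_.Finset.prod_singleton, _root_.Multiset.count_cons_self, _root_.Multiset.nodup_singleton, _root_.Multiset.mem_singleton, _root_.Multiset.count_eq_one_of_mem, _root_.Nat.factorial_two]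
    decide
  · simp only [_root_.Nat.reduceAdd, _root_.Multiset.replicate_succ, _root_.Multiset.replicate_zero, _root_.Multiset.cons_zero, _root_.Multiset.sum_cons, _root_.Multiset.sum_singleton, _root_.tsub_self, _root_.Nat.factorial_zero, _root_.Multiset.prod_cons, _root_.Multiset.prod_singleton, _root_.Nat.reduceMul, _root_.one_mul, _root_.Multiset.toFinset_cons, _root_.Multiset.toFinset_singleton, _root_.Finset.mem_singleton, _root_.Finset.insert_eq_of_mem, _root_.Finset.prod_singleton, _root_.Multiset.count_cons_self, _root_.Multiset.nodup_singleton, _root_.Multiset.mem_singleton, _root_.Multiset.count_eq_one_of_mem]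
    decide

theorem not_mcl (φ : alternatingGroup (Fin 5) × alternatingGroup (Fin 5) →* Spor.McL)
    (hφ : Function.Injective φ) : False := by
  obtain ⟨hfin, -, -, ⟨L⟩⟩ := Cfsg.Agent.H848.McLLocal.facts
  have h5 : Fact (Nat.Prime 5) := ⟨by norm_num⟩
  have h2 : Fact (Nat.Prime 2) := ⟨by norm_num⟩
  have ht : orderOf (φ (c2, 1)) = 2 := by
    rw [orderOf_injective φ hφ]
    exact orderOf_eq_prime (by rw [pow_two]; exact Prod.ext c2_mul (one_mul 1)) fun h => c2_ne (congrArg Prod.fst h)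
  obtain ⟨h3, h4⟩ := MT.sq_of_orderOf ht
  obtain ⟨L', hL'⟩ := L.exists_rebase h3 h4
  have hsm : φ (c2', 1) ∈ centralizer ({L'.t} : Set Spor.McL) := by
    rw [mem_centralizer_singleton_iff, hL', ← map_mul, ← map_mul]
    exact congrArg φ (Prod.ext c2_comm.symm rfl)
  have hxm : φ (1, c5) ∈ centralizer ({L'.t} : Set Spor.McL) := by
    rw [mem_centralizer_singleton_iff, hL', ← map_mul, ← map_mul]
    exact congrArg φ (Prod.ext ((one_mul _).trans (mul_one _).symm) ((mul_one _).trans (one_mul _).symm))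
  set r : Perm (Fin 8) := L'.K.π ⟨φ (c2', 1), hsm⟩ with hr
  set f : Perm (Fin 8) := L'.K.π ⟨φ (1, c5), hxm⟩ with hf
  have hr1 : r ≠ 1 := by
    intro h
    rcases (L'.K.ker _).1 h with h | h
    · have e1 : φ (c2', 1) = φ (1, 1) := (congrArg Subtype.val h).trans (map_one φ).symm
      exact c2'_ne (congrArg Prod.fst (hφ e1))
    · have e1 : φ (c2', 1) = φ (c2, 1) := by
        rw [← hL', ← L'.hz]
        exact congrArg Subtype.val h
      exact c2'_ne' (congrArg Prod.fst (hφ e1))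
  have hf1 : f ≠ 1 := by
    intro h
    rcases (L'.K.ker _).1 h with h | h
    · have e1 : φ (1, c5) = φ (1, 1) := (congrArg Subtype.val h).trans (map_one φ).symm
      exact c5_ne (congrArg Prod.snd (hφ e1))
    · have e1 : φ (1, c5) = φ (c2, 1) := by
        rw [← hL', ← L'.hz]
        exact congrArg Subtype.val h
      exact c2_ne (congrArg Prod.fst (hφ e1)).symm
  have hr2 : orderOf r = 2 := by
    refine orderOf_eq_prime ?_ hr1
    rw [hr, ← map_pow]
    have : (⟨φ (c2', 1), hsm⟩ : centralizer ({L'.t} : Set Spor.McL)) ^ 2 = 1 := by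
      apply Subtype.ext
      show φ (c2', 1) ^ 2 = 1
      rw [← map_pow, ← map_one φ]
      exact congrArg φ (Prod.ext (by show c2' ^ 2 = 1; rw [pow_two]; exact c2'_mul) (one_pow 2))
    rw [this, map_one]
  have hf5 : orderOf f = 5 := by
    refine orderOf_eq_prime ?_ hf1
    rw [hf, ← map_pow]
    have : (⟨φ (1, c5), hxm⟩ : centralizer ({L'.t} : Set Spor.McL)) ^ 5 = 1 := by
      apply Subtype.ext
      show φ (1, c5) ^ 5 = 1
      rw [← map_pow, ← map_one φ]
      exact congrArg φ (Prod.ext (one_pow 5) c5_pow)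
    rw [this, map_one]
  have hsg : Equiv.Perm.sign r = 1 := by
    have : r ∈ L'.K.π.range := ⟨_, rfl⟩
    rw [L'.K.range_eq] at this
    exact Equiv.Perm.mem_alternatingGroup.1 this
  refine not_five r hsg hr2 ?_
  have hfr : f ∈ centralizer ({r} : Set (Perm (Fin 8))) := by
    rw [mem_centralizer_singleton_iff, hf, hr, ← map_mul, ← map_mul]
    congr 1
    apply Subtype.ext
    show φ (1, c5) * φ (c2', 1) = φ (c2', 1) * φ (1, c5)
    rw [← map_mul, ← map_mul]
    exact congrArg φ (Prod.ext ((one_mul _).trans (mul_one _).symm) ((mul_one _).trans (one_mul _).symm))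
  have := _root_.orderOf_dvd_natCard (⟨f, hfr⟩ : centralizer ({r} : Set (Perm (Fin 8))))
  rwa [Subgroup.orderOf_mk, hf5] at this

theorem noFac_mcl (hk : Known.{0}) {T : Type} [Group T] (h : Spor.IsoMcL T) : NoFac T := by
  intro S _ _ hS hSn A M l _ hF
  obtain ⟨φ, hφ⟩ := exists_alt hF hS (mcl_sixty hk h hS hSn hF)
  obtain ⟨e⟩ := h
  exact not_mcl (e.toMonoidHom.comp φ) (e.injective.comp hφ)

end Cfsg.Agent.H505.Fac
end

-- part: H505/Fac/Five
section
/-!
# Commuting elements of order 5 inverted independently (helper505, for S3679)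

`exists_125` : `x`, `x'` commuting elements of order 5, `x' ∉ ⟨x⟩`, `t` inverts `x` and centralizes `x'`, `125 ∣ |T|`.
Then `125` divides `|C(x)|` or `|C(x')|`.
-/

set_option autoImplicit false

namespace Cfsg.Agent.H505.Fac

open Subgroup

section

variable {T : Type*} [Group T]

theorem card_cent_conj (g x : T) : Nat.card (centralizer ({g * x * g⁻¹} : Set T)) = Nat.card (centralizer ({x} : Set T)) := by
  have h : centralizer ({g * x * g⁻¹} : Set T) = (centralizer ({x} : Set T)).map (MulAut.conj g).toMonoidHom := by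
    ext y
    rw [mem_centralizer_singleton_iff, mem_map]
    constructor
    · intro h
      refine ⟨g⁻¹ * y * g, ?_, ?_⟩
      · rw [mem_centralizer_singleton_iff]
        calc g⁻¹ * y * g * x = g⁻¹ * (y * (g * x * g⁻¹)) * g := by group
          _ = g⁻¹ * (g * x * g⁻¹ * y) * g := by rw [h]
          _ = x * (g⁻¹ * y * g) := by group
      · show g * (g⁻¹ * y * g) * g⁻¹ = y
        group
    · rintro ⟨z, hz, rfl⟩
      rw [mem_centralizer_singleton_iff] at hz
      show g * z * g⁻¹ * (g * x * g⁻¹) = g * x * g⁻¹ * (g * z * g⁻¹)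
      calc g * z * g⁻¹ * (g * x * g⁻¹) = g * (z * x) * g⁻¹ := by group
        _ = g * (x * z) * g⁻¹ := by rw [hz]
        _ = _ := by group
  rw [h, card_map_of_injective (MulAut.conj g).injective]

theorem zpow_mod {x : T} (hx : x ^ 5 = 1) {i j : ℤ} (h : (5 : ℤ) ∣ i - j) : x ^ i = x ^ j := by
  obtain ⟨k, hk⟩ := h
  have : i = j + 5 * k := by omega
  rw [this, zpow_add, zpow_mul, show (x ^ (5 : ℤ)) = x ^ 5 from by norm_cast, hx, one_zpow, mul_one]

/-- an inverse modulo 5 -/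
theorem exists_inv {i : ℤ} (hi : ¬ (5 : ℤ) ∣ i) (a : ℤ) : ∃ n : ℤ, (5 : ℤ) ∣ i * n - a := by
  have h0 : i % 5 = 1 ∨ i % 5 = 2 ∨ i % 5 = 3 ∨ i % 5 = 4 := by omega
  rcases h0 with h | h | h | h
  · exact ⟨a, by
      obtain ⟨c, hc⟩ : ∃ c, i = 1 + 5 * c := ⟨i / 5, by omega⟩
      exact ⟨c * a, by rw [hc]; ring⟩⟩
  · exact ⟨3 * a, by
      obtain ⟨c, hc⟩ : ∃ c, i = 2 + 5 * c := ⟨i / 5, by omega⟩
      exact ⟨3 * c * a + a, by rw [hc]; ring⟩⟩
  · exact ⟨2 * a, by
      obtain ⟨c, hc⟩ : ∃ c, i = 3 + 5 * c := ⟨i / 5, by omega⟩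
      exact ⟨2 * c * a + a, by rw [hc]; ring⟩⟩
  · exact ⟨4 * a, by
      obtain ⟨c, hc⟩ : ∃ c, i = 4 + 5 * c := ⟨i / 5, by omega⟩
      exact ⟨4 * c * a + 3 * a, by rw [hc]; ring⟩⟩

theorem card_cent_zpow {x : T} (hx : x ^ 5 = 1) {i : ℤ} (hi : ¬ (5 : ℤ) ∣ i) :
    Nat.card (centralizer ({x ^ i} : Set T)) = Nat.card (centralizer ({x} : Set T)) := by
  have h : centralizer ({x ^ i} : Set T) = centralizer ({x} : Set T) := by
    ext y
    rw [mem_centralizer_singleton_iff, mem_centralizer_singleton_iff]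
    constructor
    · intro h
      obtain ⟨n, hn⟩ := exists_inv hi 1
      have h1 : x = (x ^ i) ^ n := by
        rw [← zpow_mul, zpow_mod hx hn, zpow_one]
      have h2 : Commute y (x ^ i) := h
      have h3 := h2.zpow_right n
      rw [← h1] at h3
      exact h3
    · intro h
      have h2 : Commute y x := h
      exact h2.zpow_right i
  rw [h]

variable [Finite T]

/-- **Lemma L** -/
theorem exists_125 (h125 : 125 ∣ Nat.card T) {x x' t : T} (hx : orderOf x = 5)
    (hx' : orderOf x' = 5) (hc : x * x' = x' * x) (hn : x' ∉ zpowers x) (ht : t * x * t⁻¹ = x⁻¹)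
    (ht' : t * x' * t⁻¹ = x') :
    125 ∣ Nat.card (centralizer ({x} : Set T)) ∨ 125 ∣ Nat.card (centralizer ({x'} : Set T)) := by
  have h5 : Fact (Nat.Prime 5) := ⟨by norm_num⟩
  have hx5 : x ^ 5 = 1 := by rw [← hx]; exact pow_orderOf_eq_one x
  have hx5' : x' ^ 5 = 1 := by rw [← hx']; exact pow_orderOf_eq_one x'
  have hcc : Commute x x' := hc
  -- the subgroup `P`
  have hcomm : ∀ (a : zpowers x) (b : zpowers x'), Commute (a : T) (b : T) := by
    rintro ⟨a, ha⟩ ⟨b, hb⟩
    obtain ⟨i, rfl⟩ := mem_zpowers_iff.mp ha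
    obtain ⟨j, rfl⟩ := mem_zpowers_iff.mp hb
    exact Commute.zpow_zpow hcc i j
  let φ : zpowers x × zpowers x' →* T :=
    MonoidHom.noncommCoprod (zpowers x).subtype (zpowers x').subtype hcomm
  have hind : ∀ i j : ℤ, x ^ i * x' ^ j = 1 → (5 : ℤ) ∣ i ∧ (5 : ℤ) ∣ j := by
    intro i j hij
    have hj : (5 : ℤ) ∣ j := by
      by_contra hj
      obtain ⟨n, hn1⟩ := exists_inv hj 1
      apply hn
      have e1 : x' ^ j = x ^ (-i) := by
        rw [zpow_neg]
        exact (inv_eq_of_mul_eq_one_right hij).symm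
      have e2 : x' = (x' ^ j) ^ n := by rw [← zpow_mul, zpow_mod hx5' hn1, zpow_one]
      rw [e2, e1, ← zpow_mul]
      exact mem_zpowers_iff.2 ⟨_, rfl⟩
    refine ⟨?_, hj⟩
    have e3 : x' ^ j = 1 := by rw [zpow_mod hx5' (j := 0) (by simpa using hj), zpow_zero]
    rw [e3, mul_one] at hij
    have := orderOf_dvd_iff_zpow_eq_one.2 hij
    rwa [hx] at this
  have hφ : Function.Injective φ := by
    rw [injective_iff_map_eq_one]
    rintro ⟨⟨a, ha⟩, ⟨b, hb⟩⟩ hab
    obtain ⟨i, rfl⟩ := mem_zpowers_iff.mp ha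
    obtain ⟨j, rfl⟩ := mem_zpowers_iff.mp hb
    obtain ⟨h1, h2⟩ := hind i j hab
    have e1 : x ^ i = 1 := by rw [zpow_mod hx5 (j := 0) (by simpa using h1), zpow_zero]
    have e2 : x' ^ j = 1 := by rw [zpow_mod hx5' (j := 0) (by simpa using h2), zpow_zero]
    exact Prod.ext (Subtype.ext e1) (Subtype.ext e2)
  set P : Subgroup T := φ.range with hP
  have hPc : Nat.card P = 5 ^ 2 := by
    rw [hP, ← Nat.card_congr (MonoidHom.ofInjective hφ).toEquiv, Nat.card_prod, Nat.card_zpowers, Nat.card_zpowers,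
      hx, hx']
    norm_num
  have hxP : x ∈ P := ⟨(⟨x, mem_zpowers x⟩, 1), by show x * 1 = x; rw [mul_one]⟩
  obtain ⟨Q, hQ, hPQ⟩ := Sylow.exists_subgroup_card_pow_prime_le 5 (n := 2) (m := 3) (by norm_num; exact h125) P hPc
    (by norm_num)
  have hQp : IsPGroup 5 Q := IsPGroup.of_card hQ
  have hnil : Group.IsNilpotent Q := hQp.isNilpotent
  -- `P` is normal in `Q`
  have hidx : (P.subgroupOf Q).index = 5 := by
    have h1 := (P.subgroupOf Q).card_mul_index
    rw [Nat.card_congr (subgroupOfEquivOfLe hPQ).toEquiv, hPc, hQ] at h1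
    omega
  have hPn : (P.subgroupOf Q).Normal := by
    refine normal_of_index_eq_minFac_card ?_
    rw [hidx, hQ]
    norm_num
  have hPne : P.subgroupOf Q ≠ ⊥ := by
    intro h
    have h1 : Nat.card (P.subgroupOf Q) = 1 := by rw [h, card_bot]
    rw [Nat.card_congr (subgroupOfEquivOfLe hPQ).toEquiv, hPc] at h1
    norm_num at h1
  obtain ⟨v', hv'1, hv'2⟩ : ∃ v' ∈ P.subgroupOf Q ⊓ center Q, v' ≠ 1 := by
    by_contra hcon
    push Not at hcon
    exact Cfsg.Agent.Lib.NormalAbelian.normal_inf_center_ne_bot (P.subgroupOf Q) hPne (eq_bot_iff.2 fun v hv => mem_bot.2 (hcon v hv))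
  obtain ⟨v, hvQ⟩ := v'
  have hvP : v ∈ P := mem_subgroupOf.1 hv'1.1
  have hvc : ∀ g ∈ Q, g * v = v * g := fun g hg =>
    congrArg Subtype.val (mem_center_iff.1 hv'1.2 ⟨g, hg⟩)
  have hv1 : v ≠ 1 := fun h => hv'2 (Subtype.ext h)
  have hv125 : 125 ∣ Nat.card (centralizer ({v} : Set T)) := by
    have : Q ≤ centralizer ({v} : Set T) := fun g hg => mem_centralizer_singleton_iff.2 (hvc g hg)
    have h1 := card_dvd_of_le this
    rwa [hQ] at h1
  obtain ⟨⟨⟨a, ha⟩, ⟨b, hb⟩⟩, hab⟩ := hvP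
  obtain ⟨i, rfl⟩ := mem_zpowers_iff.mp ha
  obtain ⟨j, rfl⟩ := mem_zpowers_iff.mp hb
  have hvij : v = x ^ i * x' ^ j := hab.symm
  have hvx : Commute v x := by
    rw [hvij]
    exact ((Commute.refl x).zpow_left i).mul_left (hcc.symm.zpow_left j)
  have hv5 : v ^ 5 = 1 := by
    rw [hvij, (hcc.zpow_zpow i j).mul_pow, ← zpow_natCast, ← zpow_natCast, ← zpow_mul, ← zpow_mul,
      zpow_mod hx5 (j := 0) (by simp), zpow_mod hx5' (j := 0) (by simp), zpow_zero, zpow_zero, mul_one]
  by_cases hj : (5 : ℤ) ∣ j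
  · left
    have e2 : x' ^ j = 1 := by rw [zpow_mod hx5' (j := 0) (by simpa using hj), zpow_zero]
    rw [e2, mul_one] at hvij
    by_cases hi : (5 : ℤ) ∣ i
    · exfalso
      apply hv1
      rw [hvij, zpow_mod hx5 (j := 0) (by simpa using hi), zpow_zero]
    · rwa [hvij, card_cent_zpow hx5 hi] at hv125
  by_cases hi : (5 : ℤ) ∣ i
  · right
    have e2 : x ^ i = 1 := by rw [zpow_mod hx5 (j := 0) (by simpa using hi), zpow_zero]
    rw [e2, one_mul] at hvij
    rwa [hvij, card_cent_zpow hx5' hj] at hv125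
  left
  by_cases hall : ∀ g ∈ Q, g * x = x * g
  · have : Q ≤ centralizer ({x} : Set T) := fun g hg => mem_centralizer_singleton_iff.2 (hall g hg)
    have h1 := card_dvd_of_le this
    rwa [hQ] at h1
  push Not at hall
  obtain ⟨g, hg, hgx⟩ := hall
  -- the commutator
  have hZ : Nat.card (zpowers (⟨v, hvQ⟩ : Q)) = 5 := by
    rw [Nat.card_zpowers, Subgroup.orderOf_mk]
    exact orderOf_eq_prime hv5 hv1
  have hZn : (zpowers (⟨v, hvQ⟩ : Q)).Normal := by
    refine ⟨fun n hn k => ?_⟩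
    obtain ⟨m, rfl⟩ := mem_zpowers_iff.1 hn
    have h1 : k * (⟨v, hvQ⟩ : Q) ^ m * k⁻¹ = (⟨v, hvQ⟩ : Q) ^ m := by
      have h2 : Commute k (⟨v, hvQ⟩ : Q) := mem_center_iff.1 hv'1.2 k
      rw [(h2.zpow_right m).eq, mul_inv_cancel_right]
    rw [h1]
    exact mem_zpowers_iff.2 ⟨m, rfl⟩
  have hquot : Nat.card (Q ⧸ zpowers (⟨v, hvQ⟩ : Q)) = 5 ^ 2 := by
    have h1 := (zpowers (⟨v, hvQ⟩ : Q)).card_mul_index
    rw [hZ, hQ] at h1
    rw [← Subgroup.index_eq_card]
    omega
  have hqc : IsMulCommutative (Q ⧸ zpowers (⟨v, hvQ⟩ : Q)) := IsPGroup.isMulCommutative_of_card_eq_prime_sq hquot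
  obtain ⟨k, hk⟩ : ∃ k : ℤ, g * x * g⁻¹ = v ^ k * x := by
    have h1 : ((⟨g, hg⟩ * ⟨x, hPQ hxP⟩ * ⟨g, hg⟩⁻¹ * ⟨x, hPQ hxP⟩⁻¹ : Q) : Q ⧸ zpowers (⟨v, hvQ⟩ : Q)) = 1 := by
      rw [QuotientGroup.mk_mul, QuotientGroup.mk_mul, QuotientGroup.mk_mul, QuotientGroup.mk_inv, QuotientGroup.mk_inv,
        hqc.is_comm.comm ((⟨g, hg⟩ : Q) : Q ⧸ zpowers (⟨v, hvQ⟩ : Q)) ((⟨x, hPQ hxP⟩ : Q) : Q ⧸ zpowers (⟨v, hvQ⟩ : Q)),
        mul_inv_cancel_right, mul_inv_cancel]
    rw [QuotientGroup.eq_one_iff] at h1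
    obtain ⟨k, hk⟩ := mem_zpowers_iff.1 h1
    refine ⟨k, ?_⟩
    have h2 : v ^ k = g * x * g⁻¹ * x⁻¹ := congrArg Subtype.val hk
    rw [h2, inv_mul_cancel_right]
  have hk5 : ¬ (5 : ℤ) ∣ k := by
    intro h
    apply hgx
    rw [zpow_mod hv5 (j := 0) (by simpa using h), zpow_zero, one_mul] at hk
    exact mul_inv_eq_iff_eq_mul.1 hk
  have hgv : g * v * g⁻¹ = v := by rw [hvc g hg, mul_inv_cancel_right]
  have hpow : ∀ m : ℕ, g ^ m * x * (g ^ m)⁻¹ = v ^ (k * m) * x := by
    intro m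
    induction m with
    | zero => simp
    | succ m ih =>
      calc g ^ (m + 1) * x * (g ^ (m + 1))⁻¹ = g * (g ^ m * x * (g ^ m)⁻¹) * g⁻¹ := by rw [pow_succ']; group
        _ = g * (v ^ (k * m) * x) * g⁻¹ := by rw [ih]
        _ = (g * v * g⁻¹) ^ (k * m) * (g * x * g⁻¹) := by rw [conj_zpow]; group
        _ = v ^ (k * (m + 1 : ℕ)) * x := by
          rw [hgv, hk, ← mul_assoc, ← zpow_add]
          congr 2
          push_cast
          ring
  -- the exponent
  obtain ⟨n, hn1⟩ := exists_inv (i := 2 * i) (fun h => by omega) (-1)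
  obtain ⟨m, hm⟩ := exists_inv hk5 n
  have hm' : ∃ m : ℕ, (5 : ℤ) ∣ k * m - n := by
    refine ⟨(m % 5).toNat, ?_⟩
    rw [Int.toNat_of_nonneg (by omega)]
    obtain ⟨c, hc⟩ : ∃ c, m = m % 5 + 5 * c := ⟨m / 5, by omega⟩
    obtain ⟨d, hd⟩ := hm
    refine ⟨d - k * c, ?_⟩
    have : k * (m % 5) = k * m - 5 * (k * c) := by
      conv_rhs => rw [hc]
      ring
    rw [this]
    linarith only [hd]
  obtain ⟨m, hm⟩ := hm'
  have e1 : Nat.card (centralizer ({v ^ n * x} : Set T)) = Nat.card (centralizer ({x} : Set T)) := by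
    rw [← card_cent_conj (g ^ m) x, hpow m, zpow_mod hv5 hm]
  -- the conjugate of `v`
  have hw : t * v * t⁻¹ = x ^ (-i) * x' ^ j := by
    calc t * v * t⁻¹ = (t * x * t⁻¹) ^ i * (t * x' * t⁻¹) ^ j := by rw [conj_zpow, conj_zpow, hvij]; group
      _ = x ^ (-i) * x' ^ j := by rw [ht, ht', inv_zpow, zpow_neg]
  have hnn : ¬ (5 : ℤ) ∣ n := by
    intro h
    obtain ⟨c, rfl⟩ := h
    obtain ⟨d, hd⟩ := hn1
    have : 5 * (2 * i * c - d) = -1 := by linarith only [hd]
    omega
  have e2 : v ^ n * x = (t * v * t⁻¹) ^ n := by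
    rw [hw, hvij, (hcc.zpow_zpow i j).mul_zpow, (hcc.zpow_zpow (-i) j).mul_zpow, ← zpow_mul, ← zpow_mul, ← zpow_mul]
    calc x ^ (i * n) * x' ^ (j * n) * x = x ^ (i * n) * (x' ^ (j * n) * x) := by group
      _ = x ^ (i * n) * (x * x' ^ (j * n)) := by rw [(hcc.symm.zpow_left (j * n)).eq]
      _ = x ^ (i * n + 1) * x' ^ (j * n) := by rw [zpow_add, zpow_one, mul_assoc]
      _ = x ^ (-i * n) * x' ^ (j * n) := by
        rw [zpow_mod hx5 (i := i * n + 1) (j := -i * n)]
        obtain ⟨d, hd⟩ := hn1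
        exact ⟨d, by linarith only [hd]⟩
  have hw5 : (t * v * t⁻¹) ^ 5 = 1 := by rw [conj_pow, hv5, mul_one, mul_inv_cancel]
  rw [← e1, e2, card_cent_zpow hw5 hnn, card_cent_conj]
  exact hv125

end

end Cfsg.Agent.H505.Fac
end

-- part: H505/Fac/HS
section
/-!
# `NoFac HS` (helper505, for S3679)

`A₅ × A₅` is not a subgroup of `HS`: `125` divides `|C(x)|` for an element `x` of order 5 of a factor (`exists_125`), so
`|C(x)| = 1500`, the other factor is normal in `C(x)` and commutes with a group of order 25.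
-/

set_option autoImplicit false

namespace Cfsg.Agent.H505.Fac

open Subgroup Cfsg Cfsg.Agent.H899.CG Cfsg.Agent.H537.Cop

theorem card_a5 : Nat.card (alternatingGroup (Fin 5)) = 60 := by
  rw [nat_card_alternatingGroup, Nat.card_eq_fintype_card, Fintype.card_fin]
  rfl

theorem card_aut_a5 : Nat.card (MulAut (alternatingGroup (Fin 5))) = 120 := by
  have h3 := Nat.card_congr (Equiv.ofBijective _ (Cfsg.Agent.S2119.result 5 (by norm_num) (by norm_num)))
  rw [← h3, Nat.card_eq_fintype_card, Fintype.card_perm, Fintype.card_fin]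
  decide

theorem simple_a5 : IsSimpleGroup (alternatingGroup (Fin 5)) := alternatingGroup.isSimpleGroup_five

theorem not_comm_a5 : ¬ IsMulCommutative (alternatingGroup (Fin 5)) := by
  intro h
  exact absurd (h.is_comm.comm c2 c5) (by decide +kernel)

/-- a subgroup of index at most four of `A₅` -/
theorem eq_top_of_index {H : Subgroup (alternatingGroup (Fin 5))} (h : H.index ≤ 4) : H = ⊤ := by
  by_contra hne
  have := simple_a5
  obtain ⟨f, hf⟩ := Cfsg.Agent.S0991.result (G := alternatingGroup (Fin 5)) not_comm_a5 H hne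
  have h1 := Subgroup.card_dvd_of_injective f hf
  rw [card_a5] at h1
  have h0 : H.index ≠ 0 := FiniteIndex.index_ne_zero
  have h2 : Nat.card (alternatingGroup (Fin H.index)) ∣ Nat.card (Equiv.Perm (Fin H.index)) :=
    card_subgroup_dvd_card _
  have h3 := h1.trans h2
  rw [Nat.card_eq_fintype_card, Fintype.card_perm, Fintype.card_fin] at h3
  have h4 : H.index.factorial ∣ 24 := Nat.factorial_dvd_factorial (n := 4) h
  have h5 := h3.trans h4
  norm_num at h5

/-- homomorphisms from `A₅` to abelian groups are trivial -/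
theorem hom_trivial {Z : Type*} [CommGroup Z] (f : alternatingGroup (Fin 5) →* Z) (g : alternatingGroup (Fin 5)) :
    f g = 1 := by
  have := simple_a5
  rcases (inferInstance : f.ker.Normal).eq_bot_or_eq_top with h | h
  · exfalso
    apply not_comm_a5
    refine ⟨⟨fun a b => (MonoidHom.ker_eq_bot_iff f).1 h ?_⟩⟩
    rw [map_mul, map_mul, mul_comm]
  · have : g ∈ f.ker := by rw [h]; trivial
    exact this

/-- the key step: the centralizer of an element of order 5 of a factor -/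
theorem dvd_cent_c2 {T : Type*} [Group T] [Finite T]
    (φ : alternatingGroup (Fin 5) × alternatingGroup (Fin 5) →* T) (hφ : Function.Injective φ)
    (h1500 : Nat.card (centralizer ({φ (c5, 1)} : Set T)) ∣ 1500)
    (h125 : 125 ∣ Nat.card (centralizer ({φ (c5, 1)} : Set T))) :
    25 ∣ Nat.card (centralizer ({φ (1, c2)} : Set T)) := by
  classical
  set C : Subgroup T := centralizer ({φ (c5, 1)} : Set T) with hC
  have hmem : ∀ (a : zpowers c5) (g : alternatingGroup (Fin 5)), φ ((a : alternatingGroup (Fin 5)), g) ∈ C := by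
    rintro ⟨a, ha⟩ g
    obtain ⟨i, rfl⟩ := mem_zpowers_iff.1 ha
    rw [hC, mem_centralizer_singleton_iff, ← map_mul, ← map_mul]
    refine congrArg φ (Prod.ext ?_ ((mul_one g).trans (one_mul g).symm))
    exact ((Commute.refl c5).zpow_left i).eq
  let ι : zpowers c5 × alternatingGroup (Fin 5) →* alternatingGroup (Fin 5) × alternatingGroup (Fin 5) :=
    MonoidHom.prodMap (zpowers c5).subtype (MonoidHom.id _)
  have hι : Function.Injective ι := by
    rintro ⟨a, g⟩ ⟨b, h⟩ hab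
    have h1 : (a : alternatingGroup (Fin 5)) = b := congrArg Prod.fst hab
    have h2 : g = h := congrArg Prod.snd hab
    exact Prod.ext (Subtype.ext h1) h2
  let θ : zpowers c5 × alternatingGroup (Fin 5) →* C := (φ.comp ι).codRestrict C fun x => hmem x.1 x.2
  have hθ : Function.Injective θ := fun x y hxy => hι (hφ (congrArg Subtype.val hxy))
  let ψ : alternatingGroup (Fin 5) →* C := θ.comp (MonoidHom.inr _ _)
  have hψ : Function.Injective ψ := fun x y hxy => congrArg Prod.snd (hθ hxy)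
  -- the index of `H`
  have hH : Nat.card θ.range = 300 := by
    rw [← Nat.card_congr (MonoidHom.ofInjective hθ).toEquiv, Nat.card_prod, Nat.card_zpowers, orderOf_c5, card_a5]
  have hidx : θ.range.index ≤ 5 := by
    have h1 := θ.range.card_mul_index
    rw [hH] at h1
    have h2 : 300 * θ.range.index ≤ 1500 := by
      rw [h1]
      exact Nat.le_of_dvd (by norm_num) h1500
    (clear * - h2; omega)
  -- the second factor acts trivially on the cosets
  have htriv : ∀ (c : C) (g : alternatingGroup (Fin 5)), c⁻¹ * ψ g * c ∈ θ.range := by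
    intro c g
    by_cases hc : c ∈ θ.range
    · exact mul_mem (mul_mem (inv_mem hc) ⟨(1, g), rfl⟩) hc
    -- the stabilizer
    let K : Subgroup (alternatingGroup (Fin 5)) := (θ.range.map (MulAut.conj c).toMonoidHom).comap ψ
    have hK : K.index ≤ 4 := by
      -- the cosets
      let F : alternatingGroup (Fin 5) ⧸ K → {q : C ⧸ θ.range // q ≠ ((1 : C) : C ⧸ θ.range)} := fun q =>
        Quotient.liftOn' q (fun a => ⟨((ψ a * c : C) : C ⧸ θ.range), fun h => hc (by
          have h1 : ψ a * c ∈ θ.range := by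
            have := QuotientGroup.eq.1 h.symm
            rwa [inv_one, one_mul] at this
          have h2 := mul_mem (inv_mem (show ψ a ∈ θ.range from ⟨(1, a), rfl⟩)) h1
          rwa [inv_mul_cancel_left] at h2)⟩) (by
          intro a b hab
          have h1 : a⁻¹ * b ∈ K := QuotientGroup.leftRel_apply.1 hab
          obtain ⟨z, hz, hz'⟩ := h1
          apply Subtype.ext
          apply QuotientGroup.eq.2
          have h2 : c * z * c⁻¹ = ψ (a⁻¹ * b) := hz'
          have h3 : (ψ a * c)⁻¹ * (ψ b * c) = z := by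
            calc (ψ a * c)⁻¹ * (ψ b * c) = c⁻¹ * ψ (a⁻¹ * b) * c := by rw [map_mul, map_inv]; group
              _ = z := by rw [← h2]; group
          rw [h3]
          exact hz)
      have hF : Function.Injective F := by
        intro p q
        induction p using QuotientGroup.induction_on with
        | H a =>
          induction q using QuotientGroup.induction_on with
          | H b =>
            intro hab
            have h1 : ((ψ a * c : C) : C ⧸ θ.range) = ((ψ b * c : C) : C ⧸ θ.range) := congrArg Subtype.val hab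
            have h2 := QuotientGroup.eq.1 h1
            apply QuotientGroup.eq.2
            refine ⟨(ψ a * c)⁻¹ * (ψ b * c), h2, ?_⟩
            show c * ((ψ a * c)⁻¹ * (ψ b * c)) * c⁻¹ = ψ (a⁻¹ * b)
            rw [map_mul, map_inv]
            group
      have h1 := Nat.card_le_card_of_injective F hF
      have h2 : Nat.card {q : C ⧸ θ.range // q ≠ ((1 : C) : C ⧸ θ.range)} + 1 = θ.range.index := by
        rw [Subgroup.index_eq_card]
        have h3 := Nat.card_congr (Equiv.Set.sumCompl ({((1 : C) : C ⧸ θ.range)} : Set (C ⧸ θ.range)))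
        rw [Nat.card_sum] at h3
        rw [← h3, add_comm]
        congr 1
        exact (Nat.card_unique).symm
      rw [Subgroup.index_eq_card]
      omega
    have h1 : g ∈ K := by rw [eq_top_of_index hK]; trivial
    obtain ⟨z, hz, hz'⟩ := h1
    have h2 : c * z * c⁻¹ = ψ g := hz'
    have h3 : c⁻¹ * ψ g * c = z := by rw [← h2]; group
    rw [h3]
    exact hz
  -- the second factor is normal
  have hnorm : ψ.range.Normal := by
    refine ⟨?_⟩
    rintro _ ⟨g, rfl⟩ c
    let e := MonoidHom.ofInjective hθ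
    let κ : alternatingGroup (Fin 5) →* zpowers c5 :=
      (MonoidHom.fst _ _).comp (e.symm.toMonoidHom.comp (((MulAut.conj c).toMonoidHom.comp ψ).codRestrict θ.range
        fun g => by
          have := htriv c⁻¹ g
          rwa [inv_inv] at this))
    have hκ : κ g = 1 := by
      let _ : CommGroup (zpowers c5) := { (inferInstance : Group (zpowers c5)) with
        mul_comm := fun a b => by
          obtain ⟨i, hi⟩ := mem_zpowers_iff.1 a.2
          obtain ⟨j, hj⟩ := mem_zpowers_iff.1 b.2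
          apply Subtype.ext
          show (a : alternatingGroup (Fin 5)) * b = b * a
          rw [← hi, ← hj]
          exact (zpow_mul_comm c5 i j) }
      exact hom_trivial (Z := zpowers c5) κ g
    obtain ⟨⟨a, b⟩, hab⟩ : c * ψ g * c⁻¹ ∈ θ.range := by
      have := htriv c⁻¹ g
      rwa [inv_inv] at this
    have h1 : e.symm ⟨c * ψ g * c⁻¹, ⟨(a, b), hab⟩⟩ = (a, b) := by
      rw [MulEquiv.symm_apply_eq]
      exact Subtype.ext hab.symm
    have h2 : a = 1 := by
      have : κ g = (e.symm ⟨c * ψ g * c⁻¹, ⟨(a, b), hab⟩⟩).1 := rfl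
      rw [hκ, h1] at this
      exact this.symm
    refine ⟨b, ?_⟩
    rw [← hab, h2]
    rfl
  -- the action on the second factor
  let e := MonoidHom.ofInjective hψ
  have hcardA : Nat.card (MulAut ψ.range) = 120 := by
    rw [← card_aut_a5]
    exact Nat.card_congr (MulAut.congr e.symm).toEquiv
  let f : C →* MulAut ψ.range := MulAut.conjNormal
  have hk1 := f.ker.card_mul_index
  have hk2 : f.ker.index ∣ 120 := by
    rw [Subgroup.index_ker, ← hcardA]
    exact card_subgroup_dvd_card _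
  have hk3 : 25 ∣ Nat.card f.ker := by
    have h3 : 125 ∣ Nat.card f.ker * f.ker.index := hk1 ▸ h125
    have h4 : 125 ∣ Nat.card f.ker * 120 := h3.trans (Nat.mul_dvd_mul_left _ hk2)
    have h5 : 5 * 25 ∣ 5 * (Nat.card f.ker * 24) := by
      have : 5 * (Nat.card f.ker * 24) = Nat.card f.ker * 120 := by ring
      rw [this]
      exact h4
    have h6 := Nat.dvd_of_mul_dvd_mul_left (by norm_num) h5
    exact (Nat.Coprime.dvd_of_dvd_mul_right (by norm_num) h6)
  have hk4 : Nat.card (f.ker.map C.subtype) = Nat.card f.ker := card_map_of_injective C.subtype_injective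
  rw [← hk4] at hk3
  refine hk3.trans (card_dvd_of_le ?_)
  rintro _ ⟨c, hc, rfl⟩
  have h1 : f c = 1 := hc
  have h2 := congrArg (fun z : MulAut ψ.range => ((z ⟨ψ c2, ⟨c2, rfl⟩⟩ : ψ.range) : C)) h1
  simp only [f, MulAut.conjNormal_apply, MulAut.one_apply] at h2
  have h3 : c * ψ c2 = ψ c2 * c := by
    rw [mul_inv_eq_iff_eq_mul] at h2
    exact h2
  rw [mem_centralizer_singleton_iff]
  exact congrArg Subtype.val h3

theorem not_hs_aux (φ : alternatingGroup (Fin 5) × alternatingGroup (Fin 5) →* Spor.HS) (hφ : Function.Injective φ)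
    (h125 : 125 ∣ Nat.card (centralizer ({φ (c5, 1)} : Set Spor.HS))) : False := by
  have := Cfsg.Agent.H647.SpF.HS.finite
  have hx : orderOf (φ (c5, 1)) = 5 := by
    have : Fact (Nat.Prime 5) := ⟨by norm_num⟩
    rw [orderOf_injective φ hφ]
    exact orderOf_eq_prime (Prod.ext c5_pow (one_pow 5)) fun h => c5_ne (congrArg Prod.fst h)
  have ht : orderOf (φ (1, c2)) = 2 := by
    have : Fact (Nat.Prime 2) := ⟨by norm_num⟩
    rw [orderOf_injective φ hφ]
    exact orderOf_eq_prime (by rw [pow_two]; exact Prod.ext (one_mul 1) c2_mul) fun h => c2_ne (congrArg Prod.snd h)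
  have h1 := Cfsg.Agent.H647.SpF.HS.five hx
  have h2 := Cfsg.Agent.CpAutHSFive.not_eight (L := Spor.HS) ⟨MulEquiv.refl _⟩ hx
  have h3 : Nat.card (centralizer ({φ (c5, 1)} : Set Spor.HS)) ∣ 1500 := by
    have key : ∀ n ∈ Nat.divisors (2 ^ 5 * 3 * 5 ^ 3), ¬ 8 ∣ n → n ∣ 1500 := by decide +kernel
    exact key _ (Nat.mem_divisors.2 ⟨h1, by norm_num⟩) h2
  exact Cfsg.Agent.H647.SpF.HS.cb_two_five _ ht (dvd_cent_c2 φ hφ h3 h125)

theorem not_hs (φ : alternatingGroup (Fin 5) × alternatingGroup (Fin 5) →* Spor.HS) (hφ : Function.Injective φ) :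
    False := by
  have := Cfsg.Agent.H647.SpF.HS.finite
  have h5 : Fact (Nat.Prime 5) := ⟨by norm_num⟩
  have hx : orderOf (φ (c5, 1)) = 5 := by
    rw [orderOf_injective φ hφ]
    exact orderOf_eq_prime (Prod.ext c5_pow (one_pow 5)) fun h => c5_ne (congrArg Prod.fst h)
  have hx' : orderOf (φ (1, c5)) = 5 := by
    rw [orderOf_injective φ hφ]
    exact orderOf_eq_prime (Prod.ext (one_pow 5) c5_pow) fun h => c5_ne (congrArg Prod.snd h)
  rcases exists_125 (x := φ (c5, 1)) (x' := φ (1, c5)) (t := φ (c2, 1))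
    (by rw [Cfsg.Agent.H647.SpF.HS.card]; norm_num) hx hx' (by
      rw [← map_mul, ← map_mul]
      exact congrArg φ (Prod.ext ((mul_one _).trans (one_mul _).symm) ((one_mul _).trans (mul_one _).symm))) (by
      intro h
      obtain ⟨i, hi⟩ := mem_zpowers_iff.1 h
      rw [← map_zpow] at hi
      have := congrArg Prod.snd (hφ hi)
      have h2 : (1 : alternatingGroup (Fin 5)) ^ i = c5 := this
      rw [one_zpow] at h2
      exact c5_ne h2.symm) (by
      rw [← map_inv, ← map_mul, ← map_mul, ← map_inv]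
      exact congrArg φ (Prod.ext c2_c5 (by show (1 : alternatingGroup (Fin 5)) * 1 * 1⁻¹ = 1⁻¹; group))) (by
      rw [← map_inv, ← map_mul, ← map_mul]
      exact congrArg φ (Prod.ext (by show c2 * 1 * c2⁻¹ = 1; group) (by
        show (1 : alternatingGroup (Fin 5)) * c5 * 1⁻¹ = c5; group))) with h | h
  · exact not_hs_aux φ hφ h
  · let σ : alternatingGroup (Fin 5) × alternatingGroup (Fin 5) →* alternatingGroup (Fin 5) × alternatingGroup (Fin 5) :=
      (MonoidHom.snd _ _).prod (MonoidHom.fst _ _)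
    have hσ : Function.Injective σ := fun a b hab => Prod.ext (congrArg Prod.snd hab) (congrArg Prod.fst hab)
    exact not_hs_aux (φ.comp σ) (hφ.comp hσ) h

theorem noFac_hs (hk : Known.{0}) {T : Type} [Group T] (h : Spor.IsoHS T) : NoFac T := by
  intro S _ _ hS hSn A M l _ hF
  obtain ⟨φ, hφ⟩ := exists_alt hF hS (hs_sixty hk h hS hSn hF)
  obtain ⟨e⟩ := h
  exact not_hs (e.toMonoidHom.comp φ) (e.injective.comp hφ)

end Cfsg.Agent.H505.Fac
end

-- part: H505/Fac/J2
section
/-!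
# `NoFac J₂` (helper505, for S3679)

`A₅ × A₅` is not a subgroup of `J₂`: let `P = ⟨x, x'⟩` be the Sylow 5-subgroup. An element of order 3 of `N(P)` acts without
fixed points on `P`, so the number of elements `y ≠ 1` of `P` with `4 ∣ |C(y)|` is divisible by 3; this set contains `x`,
`x'`, is closed under powers and under `(i, j) ↦ (-i, j)`, hence it is everything. But `J₂` has elements of order 5 with
`4 ∤ |C(w)|`.
-/

set_option autoImplicit false

namespace Cfsg.Agent.H505.Fac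

open Subgroup Cfsg Cfsg.Agent.H899.CG Cfsg.Agent.H537.Cop

/-! ### combinatorics -/

theorem comb_aux1 : ∀ i j : ZMod 5, i ≠ 0 → j ≠ 0 → j = i ∨ j = -i ∨ j = 2 * i ∨ j = -(2 * i) := by decide

theorem comb_aux2 : ∀ i : ZMod 5, i ≠ 0 → i ≠ 2 * i ∧ i ≠ -(2 * i) ∧ -i ≠ 2 * i ∧ -i ≠ -(2 * i) ∧
    2 * i ≠ i ∧ 2 * i ≠ -i ∧ -(2 * i) ≠ i ∧ -(2 * i) ≠ -i := by decide

theorem comb (E : ZMod 5 → ZMod 5 → Prop) (hk : ∀ k i j : ZMod 5, k ≠ 0 → E i j → E (k * i) (k * j))
    (hs : ∀ i j, E i j → E (-i) j) (h1 : E 1 0) (h2 : E 0 1)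
    (h3 : 3 ∣ Nat.card {v : ZMod 5 × ZMod 5 // v ≠ 0 ∧ E v.1 v.2}) :
    ∀ v : ZMod 5 × ZMod 5, v ≠ 0 → E v.1 v.2 := by
  classical
  have kmul : ∀ {k i j : ZMod 5}, k ≠ 0 → (E (k * i) (k * j) ↔ E i j) := by
    intro k i j hk0
    refine ⟨fun h => ?_, hk k i j hk0⟩
    have h4 := hk k⁻¹ _ _ (inv_ne_zero hk0) h
    rwa [inv_mul_cancel_left₀ hk0, inv_mul_cancel_left₀ hk0] at h4
  have hss : ∀ {i j : ZMod 5}, E (-i) j ↔ E i j := fun {i j} =>
    ⟨fun h => by have := hs _ _ h; rwa [neg_neg] at this, hs i j⟩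
  have hneg : ∀ {i j : ZMod 5}, E i (-j) ↔ E i j := fun {i j} => by
    have h4 := kmul (k := -1) (i := i) (j := j) (by decide)
    rw [neg_one_mul, neg_one_mul, hss] at h4
    exact h4
  have a1 : ∀ i : ZMod 5, i ≠ 0 → (E i i ↔ E 1 1) := fun i hi => by
    have h4 := kmul (k := i) (i := 1) (j := 1) hi
    rwa [mul_one] at h4
  have a2 : ∀ i : ZMod 5, i ≠ 0 → (E i (2 * i) ↔ E 1 2) := fun i hi => by
    have h4 := kmul (k := i) (i := 1) (j := 2) hi
    rwa [mul_one, mul_comm i 2] at h4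
  have key : ∀ i j : ZMod 5, ((i, j) : ZMod 5 × ZMod 5) ≠ 0 → (E i j ↔ (i = 0 ∨ j = 0 ∨ ((j = i ∨ j = -i) ∧ E 1 1) ∨
      ((j = 2 * i ∨ j = -(2 * i)) ∧ E 1 2))) := by
    intro i j hij
    by_cases hi : i = 0
    · subst hi
      have hj : j ≠ 0 := fun h => hij (by rw [h]; rfl)
      refine iff_of_true ?_ (Or.inl rfl)
      have h4 := hk j 0 1 hj h2
      rwa [mul_zero, mul_one] at h4
    by_cases hj : j = 0
    · subst hj
      refine iff_of_true ?_ (Or.inr (Or.inl rfl))
      have h4 := hk i 1 0 hi h1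
      rwa [mul_zero, mul_one] at h4
    obtain ⟨n1, n2, n3, n4, n5, n6, n7, n8⟩ := comb_aux2 i hi
    rcases comb_aux1 i j hi hj with rfl | rfl | rfl | rfl
    · rw [a1 _ hi]
      simp [hi, n1, n2]
    · rw [hneg, a1 _ hi]
      simp [hi, n3, n4]
    · rw [a2 _ hi]
      simp only [hi, hj, n5, n6, false_or, true_or, true_and, false_and]
    · rw [hneg, a2 _ hi]
      simp only [hi, hj, n7, n8, false_or, or_true, true_and, false_and]
  have hcard : ∀ (p : ZMod 5 × ZMod 5 → Prop) [DecidablePred p], (∀ v, (v ≠ 0 ∧ E v.1 v.2) ↔ p v) →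
      3 ∣ (Finset.univ.filter p).card := by
    intro p _ hp
    have e1 : Nat.card {v : ZMod 5 × ZMod 5 // v ≠ 0 ∧ E v.1 v.2} = Nat.card {v // p v} :=
      Nat.card_congr (Equiv.subtypeEquivRight hp)
    rw [e1, Nat.card_eq_fintype_card, Fintype.card_subtype] at h3
    exact h3
  by_cases b1 : E 1 1
  · by_cases b2 : E 1 2
    · rintro ⟨i, j⟩ hv
      refine (key i j hv).2 ?_
      by_cases hi : i = 0
      · exact Or.inl hi
      by_cases hj : j = 0
      · exact Or.inr (Or.inl hj)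
      rcases comb_aux1 i j hi hj with h | h | h | h
      · exact Or.inr (Or.inr (Or.inl ⟨Or.inl h, b1⟩))
      · exact Or.inr (Or.inr (Or.inl ⟨Or.inr h, b1⟩))
      · exact Or.inr (Or.inr (Or.inr ⟨Or.inl h, b2⟩))
      · exact Or.inr (Or.inr (Or.inr ⟨Or.inr h, b2⟩))
    · exfalso
      have h4 := hcard (fun v => v ≠ 0 ∧ (v.1 = 0 ∨ v.2 = 0 ∨ v.2 = v.1 ∨ v.2 = -v.1)) (fun v => by
        refine and_congr_right fun hv => ?_
        rw [key v.1 v.2 hv]
        simp [b1, b2])
      revert h4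
      decide
  · by_cases b2 : E 1 2
    · exfalso
      have h4 := hcard (fun v => v ≠ 0 ∧ (v.1 = 0 ∨ v.2 = 0 ∨ v.2 = 2 * v.1 ∨ v.2 = -(2 * v.1))) (fun v => by
        refine and_congr_right fun hv => ?_
        rw [key v.1 v.2 hv]
        simp [b1, b2])
      revert h4
      decide
    · exfalso
      have h4 := hcard (fun v => v ≠ 0 ∧ (v.1 = 0 ∨ v.2 = 0)) (fun v => by
        refine and_congr_right fun hv => ?_
        rw [key v.1 v.2 hv]
        simp [b1, b2])
      revert h4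
      decide

/-! ### the group -/

/-- fixed points modulo `p` -/
theorem card_modEq' {α : Type*} [Finite α] (f : Equiv.Perm α) {p n : ℕ} (hp : p.Prime)
    (hf : f ^ p ^ n = 1) : Nat.card α ≡ Nat.card {x // f x = x} [MOD p] := by
  classical
  have : Fact p.Prime := ⟨hp⟩
  have := Fintype.ofFinite α
  let F : Function.End α := fun x => f x
  have h1 : F ^ p ^ n = 1 := by
    have h2 : ∀ k : ℕ, F ^ k = (fun x => (f ^ k) x : Function.End α) := by
      intro k
      induction k with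
      | zero => rfl
      | succ k ih => rw [pow_succ, ih, pow_succ]; rfl
    rw [h2, hf]; rfl
  have h3 := Equiv.Perm.card_fixedPoints_modEq (f := F) h1
  rw [← Nat.card_eq_fintype_card, ← Nat.card_eq_fintype_card] at h3
  exact h3

/-- an element of order 3 normalizing a self-centralizing group of order 25: invariant subsets of `P ∖ 1` -/
theorem three_dvd_card {T : Type*} [Group T] [Finite T] {P : Subgroup T} (hP : Nat.card P = 25)
    (hC : centralizer (P : Set T) = P) {s : T} (hs : orderOf s = 3) (hsP : s ∈ normalizer (P : Set T))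
    (E : T → Prop) (hE : ∀ y, E y → E (s * y * s⁻¹)) : 3 ∣ Nat.card {y : P // y ≠ 1 ∧ E y} := by
  have h3 : Nat.Prime 3 := Nat.prime_three
  have hs3 : s ^ 3 = 1 := by rw [← hs]; exact pow_orderOf_eq_one s
  have hm : ∀ y ∈ P, s * y * s⁻¹ ∈ P := fun y hy => (mem_normalizer_iff.1 hsP y).1 hy
  have hm' : ∀ y ∈ P, s⁻¹ * y * s ∈ P := fun y hy => by
    have := (mem_normalizer_iff.1 (inv_mem hsP) y).1 hy
    rwa [inv_inv] at this
  -- the permutation of `P`
  let f : Equiv.Perm P :=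
    { toFun := fun y => ⟨s * y * s⁻¹, hm y y.2⟩
      invFun := fun y => ⟨s⁻¹ * y * s, hm' y y.2⟩
      left_inv := fun y => Subtype.ext (by show s⁻¹ * (s * (y : T) * s⁻¹) * s = y; group)
      right_inv := fun y => Subtype.ext (by show s * (s⁻¹ * (y : T) * s) * s⁻¹ = y; group) }
  have hf : f ^ 3 ^ 1 = 1 := by
    ext y
    rw [pow_one, pow_succ, pow_two, Equiv.Perm.mul_apply, Equiv.Perm.mul_apply]
    show s * (s * (s * (y : T) * s⁻¹) * s⁻¹) * s⁻¹ = y
    have hs3' : s * s * s = 1 := by rw [← hs3, pow_succ, pow_two]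
    calc s * (s * (s * (y : T) * s⁻¹) * s⁻¹) * s⁻¹ = (s * s * s) * y * (s * s * s)⁻¹ := by group
      _ = y := by rw [hs3']; group
  have h1 := card_modEq' f h3 hf
  rw [hP] at h1
  -- the fixed points
  have h2 : Nat.card {y // f y = y} = Nat.card ((centralizer ({s} : Set T)).subgroupOf P) := by
    refine Nat.card_congr (Equiv.subtypeEquivRight fun y => ?_)
    show f y = y ↔ (y : T) ∈ centralizer ({s} : Set T)
    rw [mem_centralizer_singleton_iff]
    constructor
    · intro h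
      have h4 : s * (y : T) * s⁻¹ = y := congrArg Subtype.val h
      exact (mul_inv_eq_iff_eq_mul.1 h4).symm
    · intro h
      apply Subtype.ext
      show s * (y : T) * s⁻¹ = y
      rw [← h, mul_inv_cancel_right]
  rw [h2] at h1
  have h4 : Nat.card ((centralizer ({s} : Set T)).subgroupOf P) ∣ 25 := hP ▸ card_subgroup_dvd_card _
  have h5 : Nat.card ((centralizer ({s} : Set T)).subgroupOf P) = 1 := by
    have h6 : Nat.card ((centralizer ({s} : Set T)).subgroupOf P) ∈ Nat.divisors 25 :=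
      Nat.mem_divisors.2 ⟨h4, by norm_num⟩
    have h7 : Nat.divisors 25 = {1, 5, 25} := by decide +kernel
    rw [h7] at h6
    simp only [Finset.mem_insert, Finset.mem_singleton] at h6
    rcases h6 with h6 | h6 | h6
    · exact h6
    · rw [h6] at h1
      exact absurd h1 (by decide)
    · exfalso
      have h8 : (centralizer ({s} : Set T)).subgroupOf P = ⊤ := by
        apply Subgroup.eq_top_of_card_eq
        rw [h6, hP]
      have h9 : s ∈ P := by
        rw [← hC, mem_centralizer_iff]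
        intro y hy
        have h10 : (⟨y, hy⟩ : P) ∈ (centralizer ({s} : Set T)).subgroupOf P := by rw [h8]; trivial
        exact mem_centralizer_singleton_iff.1 (mem_subgroupOf.1 h10)
      have h10 := _root_.orderOf_dvd_natCard (⟨s, h9⟩ : P)
      rw [Subgroup.orderOf_mk, hs, hP] at h10
      norm_num at h10
  have hfix : ∀ y : P, f y = y → y = 1 := by
    intro y hy
    have h6 : Nat.card {y // f y = y} = 1 := h2.trans h5
    obtain ⟨hsub, -⟩ := Nat.card_eq_one_iff_unique.1 h6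
    have h7 : f 1 = 1 := Subtype.ext (by show s * 1 * s⁻¹ = 1; group)
    exact congrArg Subtype.val (@Subsingleton.elim _ hsub ⟨y, hy⟩ ⟨1, h7⟩)
  -- the restriction
  have hEf : ∀ y : P, (y ≠ 1 ∧ E y) ↔ (f y ≠ 1 ∧ E (f y)) := by
    have hE' : ∀ y : P, (y ≠ 1 ∧ E y) → (f y ≠ 1 ∧ E (f y)) := by
      rintro y ⟨h6, h7⟩
      refine ⟨fun h8 => h6 ?_, hE y h7⟩
      have h9 : f 1 = 1 := Subtype.ext (by show s * 1 * s⁻¹ = 1; group)
      exact f.injective (h8.trans h9.symm)
    intro y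
    refine ⟨hE' y, fun h => ?_⟩
    have h6 := hE' _ (hE' _ h)
    have h7 : f (f (f y)) = y := by
      have := congrArg (fun g : Equiv.Perm P => g y) hf
      simpa [pow_succ] using this
    rwa [h7] at h6
  let g : Equiv.Perm {y : P // y ≠ 1 ∧ E y} := f.subtypePerm fun y => (hEf y).symm
  have hg : g ^ 3 ^ 1 = 1 := by
    ext ⟨y, hy⟩
    have h7 : f (f (f y)) = y := by
      have := congrArg (fun g : Equiv.Perm P => g y) hf
      simpa [pow_succ] using this
    rw [pow_one, pow_succ, pow_two, Equiv.Perm.mul_apply, Equiv.Perm.mul_apply]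
    show ((f (f (f y)) : P) : T) = y
    rw [h7]
  have h6 := card_modEq' g h3 hg
  have h7 : Nat.card {y // g y = y} = 0 := by
    have : IsEmpty {y // g y = y} := ⟨fun ⟨⟨y, hy⟩, h⟩ => hy.1 (hfix y (congrArg Subtype.val h))⟩
    exact Nat.card_of_isEmpty
  rw [h7] at h6
  exact (Nat.modEq_zero_iff_dvd).1 h6

theorem neg_val : ∀ i : ZMod 5, 5 ∣ (-i).val + i.val := by decide

/-- `A₅ × A₅` is not a subgroup of `J₂` -/
theorem not_j2 {T : Type*} [Group T] [Finite T] (h : Spor.IsoJ2 T)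
    (φ : alternatingGroup (Fin 5) × alternatingGroup (Fin 5) →* T) (hφ : Function.Injective φ) : False := by
  obtain ⟨z, u, Q, v, ρ, D⟩ := Cfsg.Agent.KFacts.J2.Facts.exists_dat_of h
  have hG := Cfsg.Agent.J2Type.Order.card_of_fus D.F
  have h5 : Fact (Nat.Prime 5) := ⟨by norm_num⟩
  have h3 : Fact (Nat.Prime 3) := ⟨by norm_num⟩
  have hmk : ∀ a b c d : alternatingGroup (Fin 5), φ (a, b) * φ (c, d) = φ (a * c, b * d) := fun a b c d =>
    (map_mul φ (a, b) (c, d)).symm
  set x : T := φ (c5, 1) with hxdef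
  set x' : T := φ (1, c5) with hxdef'
  have hx5 : x ^ 5 = 1 := by
    rw [hxdef, ← map_pow, ← map_one φ]
    exact congrArg φ (Prod.ext c5_pow (one_pow 5))
  have hx5' : x' ^ 5 = 1 := by
    rw [hxdef', ← map_pow, ← map_one φ]
    exact congrArg φ (Prod.ext (one_pow 5) c5_pow)
  have hcc : Commute x x' := by
    show x * x' = x' * x
    rw [hxdef, hxdef', hmk, hmk, mul_one, one_mul]
  -- the subgroup `P`
  have hpow : ∀ i j : ZMod 5, x ^ i.val * x' ^ j.val = φ (c5 ^ i.val, c5 ^ j.val) := by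
    intro i j
    rw [hxdef, hxdef', ← map_pow, ← map_pow, ← map_mul]
    exact congrArg φ (Prod.ext (by show c5 ^ i.val * 1 ^ j.val = _; rw [one_pow, mul_one])
      (by show 1 ^ i.val * c5 ^ j.val = _; rw [one_pow, one_mul]))
  let ι : zpowers c5 × zpowers c5 →* alternatingGroup (Fin 5) × alternatingGroup (Fin 5) :=
    MonoidHom.prodMap (zpowers c5).subtype (zpowers c5).subtype
  have hι : Function.Injective ι := by
    rintro ⟨a, g⟩ ⟨b, h⟩ hab
    have h1 : (a : alternatingGroup (Fin 5)) = b := congrArg Prod.fst hab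
    have h2 : (g : alternatingGroup (Fin 5)) = h := congrArg Prod.snd hab
    exact Prod.ext (Subtype.ext h1) (Subtype.ext h2)
  have hφι : Function.Injective (φ.comp ι) := hφ.comp hι
  set P₀ : Subgroup T := (φ.comp ι).range with hP₀
  have hP₀c : Nat.card P₀ = 25 := by
    rw [hP₀, ← Nat.card_congr (MonoidHom.ofInjective hφι).toEquiv, Nat.card_prod, Nat.card_zpowers, orderOf_c5]
  have hfac : (Nat.card T).factorization 5 = 2 := by
    rw [hG, show (604800 : ℕ) = 5 ^ 2 * 24192 by norm_num, Nat.factorization_mul (by norm_num) (by norm_num),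
      Finsupp.add_apply, Nat.Prime.factorization_pow h5.out, Finsupp.single_eq_same,
      Nat.factorization_eq_zero_of_not_dvd (by norm_num)]
  let P : Sylow 5 T := Sylow.ofCard P₀ (by rw [hP₀c, hfac]; norm_num)
  have hPP : (P : Subgroup T) = P₀ := rfl
  obtain ⟨hC, -, hN, -⟩ := Cfsg.Agent.J2Type.FiveFus.sylow_five D.F P
  rw [hPP] at hC hN
  obtain ⟨⟨s, hsN⟩, hs⟩ := exists_prime_orderOf_dvd_card' (G := normalizer (P₀ : Set T)) 3 (by rw [hN]; norm_num)
  rw [Subgroup.orderOf_mk] at hs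
  -- the indexing of `P`
  have hmemP : ∀ i j : ZMod 5, x ^ i.val * x' ^ j.val ∈ P₀ := by
    intro i j
    rw [hpow]
    exact ⟨(⟨c5 ^ i.val, pow_mem (mem_zpowers c5) _⟩, ⟨c5 ^ j.val, pow_mem (mem_zpowers c5) _⟩), rfl⟩
  let F : ZMod 5 × ZMod 5 → P₀ := fun v => ⟨x ^ v.1.val * x' ^ v.2.val, hmemP v.1 v.2⟩
  have hFinj : Function.Injective F := by
    rintro ⟨i, j⟩ ⟨k, l⟩ hab
    have e1 : x ^ i.val * x' ^ j.val = x ^ k.val * x' ^ l.val := congrArg Subtype.val hab
    rw [hpow, hpow] at e1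
    have e2 := hφ e1
    have e3 : c5 ^ i.val = c5 ^ k.val := congrArg Prod.fst e2
    have e4 : c5 ^ j.val = c5 ^ l.val := congrArg Prod.snd e2
    rw [pow_inj_mod, orderOf_c5, Nat.mod_eq_of_lt (ZMod.val_lt i), Nat.mod_eq_of_lt (ZMod.val_lt k)] at e3
    rw [pow_inj_mod, orderOf_c5, Nat.mod_eq_of_lt (ZMod.val_lt j), Nat.mod_eq_of_lt (ZMod.val_lt l)] at e4
    exact Prod.ext (ZMod.val_injective 5 e3) (ZMod.val_injective 5 e4)
  have hFbij : Function.Bijective F := by
    rw [Nat.bijective_iff_injective_and_card]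
    exact ⟨hFinj, by rw [hP₀c, Nat.card_prod, Nat.card_zmod]⟩
  have hF0 : F 0 = 1 := Subtype.ext (by show x ^ 0 * x' ^ 0 = 1; rw [pow_zero, pow_zero, mul_one])
  -- the property
  let E' : T → Prop := fun y => 4 ∣ Nat.card (centralizer ({y} : Set T))
  let E : ZMod 5 → ZMod 5 → Prop := fun i j => E' (x ^ i.val * x' ^ j.val)
  have hE'c : ∀ g y, E' y → E' (g * y * g⁻¹) := fun g y hy => by
    show 4 ∣ Nat.card (centralizer ({g * y * g⁻¹} : Set T))
    rw [card_cent_conj]
    exact hy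
  -- powers
  have hval : ∀ {y : T}, y ^ 5 = 1 → ∀ (k i : ZMod 5), y ^ (k * i).val = (y ^ i.val) ^ ((k.val : ℕ) : ℤ) := by
    intro y hy k i
    rw [zpow_natCast, ← pow_mul, ZMod.val_mul, mul_comm i.val, pow_eq_pow_mod (k.val * i.val) hy]
  have hmain : ∀ v : ZMod 5 × ZMod 5, v ≠ 0 → E v.1 v.2 := by
    refine comb E ?_ ?_ ?_ ?_ ?_
    · intro k i j hk hij
      show E' (x ^ (k * i).val * x' ^ (k * j).val)
      rw [hval hx5, hval hx5', ← ((hcc.pow_left i.val).pow_right j.val).mul_zpow]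
      show 4 ∣ Nat.card (centralizer ({(x ^ i.val * x' ^ j.val) ^ ((k.val : ℕ) : ℤ)} : Set T))
      rw [card_cent_zpow]
      · exact hij
      · rw [((hcc.pow_left i.val).pow_right j.val).mul_pow, ← pow_mul, ← pow_mul, mul_comm i.val, mul_comm j.val,
          pow_mul, pow_mul, hx5, hx5', one_pow, one_pow, mul_one]
      · intro h
        have h1 : (5 : ℕ) ∣ k.val := by exact_mod_cast h
        have h2 := ZMod.val_lt k
        have h3 : k.val = 0 := by omega
        exact hk ((ZMod.val_eq_zero k).1 h3)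
    · intro i j hij
      have h1 : x ^ (-i).val * x' ^ j.val = φ (c2, 1) * (x ^ i.val * x' ^ j.val) * (φ (c2, 1))⁻¹ := by
        have e1 : φ (c2, 1) * x * (φ (c2, 1))⁻¹ = x⁻¹ := by
          rw [hxdef, ← map_inv, ← map_mul, ← map_mul, ← map_inv]
          exact congrArg φ (Prod.ext c2_c5 (by show (1 : alternatingGroup (Fin 5)) * 1 * 1⁻¹ = 1⁻¹; group))
        have e2 : φ (c2, 1) * x' * (φ (c2, 1))⁻¹ = x' := by
          rw [hxdef', ← map_inv, ← map_mul, ← map_mul]
          exact congrArg φ (Prod.ext (by show c2 * 1 * c2⁻¹ = 1; group) (by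
            show (1 : alternatingGroup (Fin 5)) * c5 * 1⁻¹ = c5; group))
        have e3 : φ (c2, 1) * (x ^ i.val * x' ^ j.val) * (φ (c2, 1))⁻¹ =
            (φ (c2, 1) * x * (φ (c2, 1))⁻¹) ^ i.val * (φ (c2, 1) * x' * (φ (c2, 1))⁻¹) ^ j.val := by
          rw [conj_pow, conj_pow]
          group
        rw [e3, e1, e2]
        congr 1
        rw [inv_pow, eq_inv_iff_mul_eq_one, ← pow_add]
        have e4 : 5 ∣ (-i).val + i.val := neg_val i
        obtain ⟨c, hc⟩ := e4
        rw [hc, pow_mul, hx5, one_pow]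
      show E' (x ^ (-i).val * x' ^ j.val)
      rw [h1]
      exact hE'c _ _ hij
    · -- `x`
      show 4 ∣ Nat.card (centralizer ({x ^ (1 : ZMod 5).val * x' ^ (0 : ZMod 5).val} : Set T))
      have e1 : x ^ (1 : ZMod 5).val * x' ^ (0 : ZMod 5).val = x := by
        show x ^ 1 * x' ^ 0 = x
        rw [pow_one, pow_zero, mul_one]
      rw [e1]
      let ψ : alternatingGroup (Fin 5) →* centralizer ({x} : Set T) :=
        (φ.comp (MonoidHom.inr _ _)).codRestrict _ fun g => by
          show φ (1, g) ∈ _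
          rw [mem_centralizer_singleton_iff, hxdef, hmk, hmk]
          simp
      have hψ : Function.Injective ψ := fun a b hab => congrArg Prod.snd (hφ (congrArg Subtype.val hab))
      have h1 := Subgroup.card_dvd_of_injective ψ hψ
      rw [card_a5] at h1
      exact dvd_trans (by norm_num) h1
    · show 4 ∣ Nat.card (centralizer ({x ^ (0 : ZMod 5).val * x' ^ (1 : ZMod 5).val} : Set T))
      have e1 : x ^ (0 : ZMod 5).val * x' ^ (1 : ZMod 5).val = x' := by
        show x ^ 0 * x' ^ 1 = x'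
        rw [pow_one, pow_zero, one_mul]
      rw [e1]
      let ψ : alternatingGroup (Fin 5) →* centralizer ({x'} : Set T) :=
        (φ.comp (MonoidHom.inl _ _)).codRestrict _ fun g => by
          show φ (g, 1) ∈ _
          rw [mem_centralizer_singleton_iff, hxdef', hmk, hmk]
          simp
      have hψ : Function.Injective ψ := fun a b hab => congrArg Prod.fst (hφ (congrArg Subtype.val hab))
      have h1 := Subgroup.card_dvd_of_injective ψ hψ
      rw [card_a5] at h1
      exact dvd_trans (by norm_num) h1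
    · have h1 := three_dvd_card hP₀c hC hs hsN E' (hE'c s)
      have h2 : Nat.card {v : ZMod 5 × ZMod 5 // v ≠ 0 ∧ E v.1 v.2} = Nat.card {y : P₀ // y ≠ 1 ∧ E' y} := by
        refine Nat.card_congr ((Equiv.ofBijective F hFbij).subtypeEquiv fun v => ?_)
        refine and_congr ?_ Iff.rfl
        rw [not_iff_not]
        constructor
        · rintro rfl
          exact hF0
        · intro h
          exact hFinj (h.trans hF0.symm)
      rw [h2]
      exact h1
  -- an element of order 5 commuting with `z`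
  obtain ⟨⟨w, hwm⟩, hw⟩ := exists_prime_orderOf_dvd_card' (G := centralizer ({z} : Set T)) 5
    (by rw [D.F.cardC]; norm_num)
  rw [Subgroup.orderOf_mk] at hw
  have hwz : w * z = z * w := mem_centralizer_singleton_iff.mp hwm
  have hnw := Cfsg.Agent.J2Type.FiveFus.not_four_dvd D.F hw hwz
  have hwp : IsPGroup 5 (zpowers w) := IsPGroup.of_card (n := 1) (by rw [Nat.card_zpowers, hw, pow_one])
  obtain ⟨R, hR⟩ := hwp.exists_le_sylow
  obtain ⟨g, hg⟩ := MulAction.exists_smul_eq T R P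
  have hgw : g * w * g⁻¹ ∈ P₀ := by
    have h1 : g * w * g⁻¹ ∈ (g • R : Sylow 5 T) := by
      rw [Sylow.smul_def]
      exact ⟨w, hR (mem_zpowers w), rfl⟩
    rw [hg] at h1
    exact h1
  obtain ⟨v, hv⟩ := hFbij.2 ⟨g * w * g⁻¹, hgw⟩
  have hv0 : v ≠ 0 := by
    rintro rfl
    rw [hF0] at hv
    have h1 : g * w * g⁻¹ = 1 := (congrArg Subtype.val hv).symm
    have h2 : w = 1 := by
      rw [mul_inv_eq_one] at h1
      exact mul_eq_left.1 h1
    rw [h2, orderOf_one] at hw
    norm_num at hw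
  have h1 := hmain v hv0
  have h2 : x ^ v.1.val * x' ^ v.2.val = g * w * g⁻¹ := congrArg Subtype.val hv
  have h4 : 4 ∣ Nat.card (centralizer ({x ^ v.1.val * x' ^ v.2.val} : Set T)) := h1
  rw [h2, card_cent_conj] at h4
  exact hnw h4

theorem noFac_j2 (hk : Known.{0}) {T : Type} [Group T] (h : Spor.IsoJ2 T) : NoFac T := by
  intro S _ _ hS hSn A M l _ hF
  have hc : Nat.card T = 604800 := NotCT.Orders.j2 h
  have : Finite T := Nat.finite_of_card_ne_zero (by rw [hc]; norm_num)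
  obtain ⟨φ, hφ⟩ := exists_alt hF hS (j2_sixty hk h hS hSn hF)
  exact not_j2 h φ hφ

end Cfsg.Agent.H505.Fac
end

-- part: H505/Fac/Main
section
/-!
# `NoFac T` for `J₂`, `HS`, `He`, `McL`, `Co₂`, `Co₃` and the Tits group (helper505, task 3153, for S3679)
-/

set_option autoImplicit false

namespace Cfsg.Agent.H505.Fac

open Cfsg Cfsg.Agent.H899.CG Cfsg.Agent.H537.Cop

/-- **The rows of FAC-SPOR-2.** -/
theorem noFac_spor2 (hk : Known.{0}) {T : Type} [Group T]
    (h : Spor.IsoJ2 T ∨ Spor.IsoHS T ∨ Spor.IsoHe T ∨ Spor.IsoMcL T ∨ Spor.IsoCo2 T ∨ Spor.IsoCo3 T ∨ Lie.IsoTits T) :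
    NoFac T := by
  rcases h with h | h | h | h | h | h | h
  · exact noFac_j2 hk h
  · exact noFac_hs hk h
  · exact noFac_he hk h
  · exact noFac_mcl hk h
  · exact noFac_co2 hk h
  · exact noFac_co3 hk h
  · exact noFac_tits hk h

end Cfsg.Agent.H505.Fac
end
end

-- part: H899/Asm/All
section
prune_inst 0x100009000500100000000000800000602200000000000000000001000580840000802000802000040200000500350008110000000200000000000000011801a0100244028308000c840000000000000000000000000000000000000000000000000000000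
set_option linter.all false
open scoped Cfsg.Agent.FastGrp

-- part: H946/DK/Three
section
/-!
# Two commuting elements of order three in `O⁺₄(F)` (helper946, S3679)
-/

set_option autoImplicit false

namespace Cfsg.Agent.H946.DK.Three

open Matrix

variable (F : Type*) [Field F]

/-- the first matrix -/
def m1 : Matrix (Fin 2 ⊕ Fin 2) (Fin 2 ⊕ Fin 2) F := Matrix.fromBlocks !![0, 1; -1, -1] 0 0 !![-1, 1; -1, 0]

/-- the second matrix -/
def m2 : Matrix (Fin 2 ⊕ Fin 2) (Fin 2 ⊕ Fin 2) F :=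
  Matrix.fromBlocks !![-1, 0; 0, -1] !![0, 1; -1, 0] !![0, 1; -1, 0] 0

theorem m1_cube : m1 F * m1 F * m1 F = 1 := by
  rw [← fromBlocks_one, m1, fromBlocks_multiply, fromBlocks_multiply]
  congr 1
  all_goals
    ext i j
    fin_cases i <;> fin_cases j <;> simp [Matrix.mul_apply, Fin.sum_univ_two]

theorem m2_cube : m2 F * m2 F * m2 F = 1 := by
  rw [← fromBlocks_one, m2, fromBlocks_multiply, fromBlocks_multiply]
  congr 1
  all_goals
    ext i j
    (revert i j; simp only [Matrix.mul_apply, Fin.sum_univ_two, _root_.Fin.forall_fin_succ, _root_.Matrix.cons_mul, _root_.Nat.succ_eq_add_one, Nat.reduceAdd, _root_.Matrix.vecMul_cons, _root_.Matrix.head_cons, _root_.neg_smul, _root_.one_smul, _root_.Matrix.neg_cons, _root_.neg_neg, _root_.neg_zero, _root_.Matrix.neg_empty, _root_.Matrix.tail_cons, _root_.zero_smul, _root_.Matrix.empty_vecMul, _root_.add_zero, _root_.zero_add, _root_.Matrix.empty_mul, _root_.Equiv.symm_apply_apply, _root_.Matrix.of_add_of,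 _root_.Matrix.add_cons, _root_.add_neg_cancel, _root_.Matrix.empty_add_empty, _root_.MulZeroClass.mul_zero, _root_.Matrix.add_apply, _root_.Matrix.of_apply, _root_.Matrix.cons_val', _root_.Pi.zero_apply, _root_.Matrix.cons_val_fin_one, Fin.isValue, _root_.Matrix.cons_val_zero, _root_.Matrix.cons_val_succ, _root_.IsEmpty.forall_iff, _root_.and_true, _root_.Matrix.one_apply_eq, _root_.Fin.succ_zero_eq_one, _root_.ne_eq, _root_.zero_ne_one, _root_.not_false_eq_true, _root_.Matrix.one_apply_ne, _root_.and_self, _root_.Fin.succ_ne_zero, _root_.true_and, _root_.Matrix.zero_apply, _root_.forall_const, _root_.implies_true, _root_.MulZeroClass.zero_mul, _root_.neg_add_cancel])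

theorem m12 : m1 F * m2 F = m2 F * m1 F := by
  rw [m1, m2, fromBlocks_multiply, fromBlocks_multiply]
  (with_reducible_and_instances congr 1)
  all_goals
    ext i j
    (revert i j; simp [Matrix.mul_apply, Fin.sum_univ_two, _root_.Fin.forall_fin_succ])

theorem m1_form (v : Fin 2 ⊕ Fin 2 → F) : quadFormPlus 2 F (m1 F *ᵥ v) = quadFormPlus 2 F v := by
  simp only [quadFormPlus, m1, Fin.sum_univ_two, Matrix.mulVec, dotProduct, Fintype.sum_sum_type, fromBlocks_apply₁₁,
    fromBlocks_apply₁₂, fromBlocks_apply₂₁, fromBlocks_apply₂₂]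
  simp only [_root_.Fin.isValue, _root_.Matrix.of_apply, _root_.Matrix.cons_val', _root_.Matrix.cons_val_zero, _root_.Matrix.cons_val_fin_one, _root_.MulZeroClass.zero_mul, _root_.Matrix.cons_val_one, _root_.one_mul, _root_.zero_add, _root_.Matrix.zero_apply, _root_.add_zero, _root_.neg_mul, _root_.mul_neg]
  ring

theorem m2_form (v : Fin 2 ⊕ Fin 2 → F) : quadFormPlus 2 F (m2 F *ᵥ v) = quadFormPlus 2 F v := by
  simp only [quadFormPlus, m2, Fin.sum_univ_two, Matrix.mulVec, dotProduct, Fintype.sum_sum_type, fromBlocks_apply₁₁,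
    fromBlocks_apply₁₂, fromBlocks_apply₂₁, fromBlocks_apply₂₂]
  simp only [_root_.Fin.isValue, _root_.Matrix.of_apply, _root_.Matrix.cons_val', _root_.Matrix.cons_val_zero, _root_.Matrix.cons_val_fin_one, _root_.neg_mul, _root_.one_mul, _root_.Matrix.cons_val_one, _root_.MulZeroClass.zero_mul, _root_.add_zero, _root_.zero_add, _root_.Matrix.zero_apply, _root_.mul_neg]
  ring

/-- the first element -/
def w1 : isometryGroup F (quadFormPlus 2 F) :=
  ⟨⟨m1 F, m1 F * m1 F, by rw [← mul_assoc]; exact m1_cube F, m1_cube F⟩, fun u _ => m1_form F u⟩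

/-- the second element -/
def w2 : isometryGroup F (quadFormPlus 2 F) :=
  ⟨⟨m2 F, m2 F * m2 F, by rw [← mul_assoc]; exact m2_cube F, m2_cube F⟩, fun u _ => m2_form F u⟩

/-- the matrix -/
def mt (x : isometryGroup F (quadFormPlus 2 F)) : Matrix (Fin 2 ⊕ Fin 2) (Fin 2 ⊕ Fin 2) F :=
  Units.val (x : Matrix.GeneralLinearGroup (Fin 2 ⊕ Fin 2) F)

theorem ext_mat {x y : isometryGroup F (quadFormPlus 2 F)} (h : mt F x = mt F y) : x = y :=
  Subtype.ext (Units.ext h)

theorem mt_pow (x : isometryGroup F (quadFormPlus 2 F)) (k : ℕ) : mt F (x ^ k) = mt F x ^ k := by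
  unfold mt
  rw [Subgroup.coe_pow, Units.val_pow_eq_pow_val]

theorem mt_mul (x y : isometryGroup F (quadFormPlus 2 F)) : mt F (x * y) = mt F x * mt F y := rfl

theorem mt_one : mt F 1 = 1 := rfl

theorem mt_w1 : mt F (w1 F) = m1 F := rfl

theorem mt_w2 : mt F (w2 F) = m2 F := rfl

theorem m1_blocks (k : ℕ) : ∃ a b, m1 F ^ k = fromBlocks a 0 0 b := by
  induction k with
  | zero => exact ⟨1, 1, by rw [pow_zero, fromBlocks_one]⟩
  | succ k ih =>
    obtain ⟨a, b, h⟩ := ih
    refine ⟨a * !![0, 1; -1, -1], b * !![-1, 1; -1, 0], ?_⟩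
    rw [pow_succ, h, m1, fromBlocks_multiply]
    simp

theorem orderOf_w1 : orderOf (w1 F) = 3 := by
  have : Fact (Nat.Prime 3) := ⟨Nat.prime_three⟩
  refine orderOf_eq_prime (ext_mat F ?_) fun h => ?_
  · rw [mt_pow, mt_w1, pow_succ, pow_succ, pow_one, m1_cube, mt_one]
  · have h1 := congrArg (mt F) h
    rw [mt_w1, mt_one] at h1
    have h2 : m1 F (Sum.inl 0) (Sum.inl 1) = 1 := by simp [m1]
    have h3 : (1 : Matrix (Fin 2 ⊕ Fin 2) (Fin 2 ⊕ Fin 2) F) (Sum.inl 0) (Sum.inl 1) = 0 :=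
      Matrix.one_apply_ne (by decide)
    rw [h1, h3] at h2
    exact zero_ne_one h2

theorem orderOf_w2 : orderOf (w2 F) = 3 := by
  have : Fact (Nat.Prime 3) := ⟨Nat.prime_three⟩
  refine orderOf_eq_prime (ext_mat F ?_) fun h => ?_
  · rw [mt_pow, mt_w2, pow_succ, pow_succ, pow_one, m2_cube, mt_one]
  · have h1 := congrArg (mt F) h
    rw [mt_w2, mt_one] at h1
    have h2 : m2 F (Sum.inr 0) (Sum.inl 1) = 1 := by simp [m2]
    have h3 : (1 : Matrix (Fin 2 ⊕ Fin 2) (Fin 2 ⊕ Fin 2) F) (Sum.inr 0) (Sum.inl 1) = 0 :=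
      Matrix.one_apply_ne (by decide)
    rw [h1, h3] at h2
    exact zero_ne_one h2

theorem w12 : w1 F * w2 F = w2 F * w1 F := by
  apply ext_mat
  rw [mt_mul, mt_mul, mt_w1, mt_w2]
  exact m12 F

theorem w2_not_mem : w2 F ∉ Subgroup.zpowers (w1 F) := by
  intro h
  have hfin : IsOfFinOrder (w1 F) := orderOf_pos_iff.1 (by rw [orderOf_w1]; norm_num)
  obtain ⟨k, hk⟩ := (hfin.mem_powers_iff_mem_zpowers).2 h
  have hk' : w1 F ^ k = w2 F := hk
  obtain ⟨a, b, hab⟩ := m1_blocks F k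
  have h1 := congrArg (mt F) hk'
  rw [mt_pow, mt_w1, mt_w2, hab] at h1
  have h2 : m2 F (Sum.inr 0) (Sum.inl 1) = 1 := by simp [m2]
  rw [← h1] at h2
  exact zero_ne_one h2

/-- **`C₃ × C₃` in `O⁺₄(F)`** -/
theorem exists_three : ∃ w₁ w₂ : isometryGroup F (quadFormPlus 2 F), orderOf w₁ = 3 ∧ orderOf w₂ = 3 ∧
    w₁ * w₂ = w₂ * w₁ ∧ w₂ ∉ Subgroup.zpowers w₁ :=
  ⟨w1 F, w2 F, orderOf_w1 F, orderOf_w2 F, w12 F, w2_not_mem F⟩

end Cfsg.Agent.H946.DK.Three
end

-- part: H946/DK/Sp8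
section
/-!
# `Sp₈(2)`, `M` almost simple with socle `Ω⁻₈(2)` (helper946, S3679)

* `comm3_minus_three` : in `PΩ⁻₈(q)` an element of order `r`, `ord_r(q) = 4`, commutes with a subgroup `C₃ × C₃`;
* `not_fac_sp8` : no factorization `Sp₈(2) = A M`.
-/

set_option autoImplicit false
set_option linter.unusedVariables false

namespace Cfsg.Agent.H946.DK

open Cfsg Matrix QuadraticMap Cfsg.Agent.LieClassical.OmegaReindex
open Cfsg.Agent.OrdDiv Cfsg.Agent.H436 Cfsg.Agent.H884.El Cfsg.Agent.H884.Ig Cfsg.Agent.H884.Mx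

/-- **`PΩ⁻₈(q)`** -/
theorem comm3_minus_three {F : Type} [Field F] [Fintype F] {q r : ℕ} (hF : Fintype.card F = q) {a b : F}
    (hab : ∀ z₁ z₂ : F, z₁ ^ 2 + a * z₁ * z₂ + b * z₂ ^ 2 = 0 → z₁ = 0 ∧ z₂ = 0) (hr : Prim q 4 r) :
    ∃ x w₁ w₂ : POmega F (quadFormMinus 3 F a b), orderOf x = r ∧ orderOf w₁ = 3 ∧ orderOf w₂ = 3 ∧
      x * w₁ = w₁ * x ∧ x * w₂ = w₂ * x ∧ w₁ * w₂ = w₂ * w₁ ∧ w₂ ∉ Subgroup.zpowers w₁ := by
  have hrp := Fact.mk hr.prime
  have h1 : r ∣ Nat.card (isometryGroup F (quadFormMinus (2 - 1) F a b)) := by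
    rw [S0288.result hF 2 (by omega) a b hab]
    refine Dvd.dvd.mul_right (Dvd.dvd.mul_left ?_ _) _
    exact hr.dvd_add (by norm_num) (by norm_num)
  (have h_ob := exists_prime_orderOf_dvd_card' r h1
   revert h_ob; rintro (⟨x₀, hx₀⟩))
  (have h_ob := Three.exists_three F
   revert h_ob; rintro (⟨w, w', hw, hw', hww, hnw⟩))
  have hr2 : r ≠ 2 := by
    have := hr.odd (by omega)
    omega
  -- the embedding
  let φ : isometryGroup F (quadFormPlus 2 F) × isometryGroup F (quadFormMinus 1 F a b) →*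
      isometryGroup F (quadFormMinus (2 + 1) F a b) := minusSum 2 1 a b
  have hφ : Function.Injective φ := minusSum_injective 2 1 a b
  have hcard : Fintype.card ((Fin 3 ⊕ Fin 3) ⊕ Fin 2) = 8 := by decide
  (with_reducible_and_instances
  refine exists_comm3' (quadMinus 3 F a b) (quadMinus_nondegenerate hab) (by rw [hcard]; norm_num)
    (quadMinus_isotropic (by omega) _ _) (coe_quadMinus _ _ _ _) (x := φ (1, x₀)) (w₁ := φ (w, 1))
    (w₂ := φ (w', 1)) hr.prime hr2 Nat.prime_three (by norm_num) ?_ ?_ ?_ ?_ ?_ ?_ ?_)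
  · rw [orderOf_injective _ hφ, Prod.orderOf_mk, orderOf_one, Nat.lcm_one_left]
    exact hx₀
  · rw [orderOf_injective _ hφ, Prod.orderOf_mk, orderOf_one, hw, Nat.lcm_one_right]
  · rw [orderOf_injective _ hφ, Prod.orderOf_mk, orderOf_one, hw', Nat.lcm_one_right]
  · simp only [← map_mul, ← map_mul]
    congr 1
    simp
  · simp only [← map_mul, ← map_mul]
    congr 1
    simp only [_root_.Prod.mk_mul_mk, _root_.one_mul, _root_.mul_one]
  · simp only [← map_mul, ← map_mul, Prod.mk_mul_mk, Prod.mk_mul_mk, hww]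
  · intro h
    obtain ⟨k, hk⟩ := Subgroup.mem_zpowers_iff.1 h
    rw [← map_zpow] at hk
    have h3 := hφ hk
    have h4 := congrArg (fun y => y.1) h3
    exact hnw (Subgroup.mem_zpowers_iff.2 ⟨k, h4⟩)

/-- **Part B, `n = 4`, `C₃ × C₃`** -/
theorem partB4_three {T : Type*} [Group T] {M : Subgroup T} {p f r : ℕ} (hf : 1 ≤ f)
    (hM : ∃ S : Subgroup M, S.Normal ∧ IsSimpleGroup S ∧ ¬ IsMulCommutative S ∧
      Subgroup.centralizer (S : Set M) = ⊥ ∧ IsNamed (.ominus 4 (p ^ f)) S) (hr : Prim p (4 * f) r) :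
    ∃ x w₁ w₂ : T, x ∈ M ∧ w₁ ∈ M ∧ w₂ ∈ M ∧ orderOf x = r ∧ orderOf w₁ = 3 ∧ orderOf w₂ = 3 ∧
        x * w₁ = w₁ * x ∧ x * w₂ = w₂ * x ∧ w₁ * w₂ = w₂ * w₁ ∧ w₂ ∉ Subgroup.zpowers w₁ := by
  obtain ⟨S, -, -, -, -, hS⟩ := hM
  obtain ⟨F, _, _, a, b, hF, hab, ⟨e⟩⟩ := hS.real
  obtain ⟨x, w₁, w₂, hx, h1, h2, hx1, hx2, h12, hne⟩ := comm3_minus_three hF hab (H884.Mx.prim_pow hf hr)
  have hinj : Function.Injective (M.subtype.comp (S.subtype.comp e.symm.toMonoidHom)) :=
    M.subtype_injective.comp (S.subtype_injective.comp e.symm.injective)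
  set ψ := M.subtype.comp (S.subtype.comp e.symm.toMonoidHom) with hψ
  have hmem : ∀ y, ψ y ∈ M := fun y => (S.subtype (e.symm y)).2
  refine ⟨ψ x, ψ w₁, ψ w₂, hmem _, hmem _, hmem _, ?_, ?_, ?_, ?_, ?_, ?_, ?_⟩
  · rw [orderOf_injective _ hinj, hx]
  · rw [orderOf_injective _ hinj, h1]
  · rw [orderOf_injective _ hinj, h2]
  · simp only [← map_mul ψ x w₁, hx1, map_mul ψ w₁ x]
  · simp only [← map_mul ψ x w₂, hx2, map_mul ψ w₂ x]
  · simp only [← map_mul ψ w₁ w₂, h12, map_mul ψ w₂ w₁]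
  · intro h
    obtain ⟨k, hk⟩ := Subgroup.mem_zpowers_iff.1 h
    rw [← map_zpow] at hk
    exact hne ⟨k, hinj hk⟩

section PSp

open Module Cfsg.Agent.H951 Cfsg.Agent.H884.Cg Cfsg.Agent.H899.CG Cfsg.Agent.H899.Pt
open Cfsg.Agent.H57.BG (AS repS)
open Cfsg.Agent.ClassicalGeometry.SympBasic

variable {F : Type} [Field F] [Fintype F] {S : Type*} [Group S] [Finite S] {l : ℕ} {A M : Subgroup (PSp 4 F)}

/-- **`Sp₈(2)`** -/
theorem not_fac_sp8 (hq2 : Fintype.card F = 2) (hS : IsSimpleGroup S) (hSna : ¬ IsMulCommutative S)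
    (hM : AS (.ominus 4 2) M) : ¬ Fac (PSp 4 F) A M S l := by
  intro hF
  have hfin : Finite (PSp 4 F) := Quotient.finite _
  have hm : 4 ≤ 4 := le_rfl
  have hme : Even 4 := by decide
  obtain ⟨p, f, r, hp, hf, hq, hr⟩ := exists_r (F := F) hm hme (fun h => by omega)
  have hp2 : p = 2 := by
    have h1 : p ∣ 2 ^ 1 := by
      rw [pow_one, ← hq2, hq]
      exact dvd_pow_self p (by omega)
    exact (Nat.prime_dvd_prime_iff_eq hp Nat.prime_two).1 (hp.dvd_of_dvd_pow h1)
  have hf1 : f = 1 := by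
    subst hp2
    have h1 : 2 ^ f = 2 ^ 1 := by rw [← hq, hq2, pow_one]
    exact Nat.pow_right_injective le_rfl h1
  have hM : AS (.ominus 4 (p ^ f)) M := by
    rw [hp2, hf1, pow_one]
    exact hM
  have hpp : PP (Nat.card F) 4 r := _root_.Cfsg.Agent.H899.Pt.pp_of_prim hq hf hr
  have h := env_psp (by omega) hpp
  have h0 := conj0_psp (by omega) hpp
  have hcard := card_psp' (F := F) (m := 4) (by omega)
  rw [hq] at hcard
  have hno := (H884.Mx.partC hp hf (Or.inl rfl) hM hme hm hr).2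
  have hsc : ∀ k ∈ (QuotientGroup.mk' (Subgroup.center (Matrix.symplecticGroup (Fin 4) F))).ker,
      ∃ c : F, repS 4 F k = c • 1 := by
    intro k hk
    rcases sp_pm (by omega) (MonoidHom.mem_ker.1 hk) with h1 | h1
    · exact ⟨1, by rw [h1, one_smul]⟩
    · refine ⟨-1, ?_⟩
      rw [h1]
      apply LinearMap.ext
      intro v
      rw [LinearMap.smul_apply, LinearMap.neg_apply, Module.End.one_apply, neg_smul, one_smul]
  have fin : HasType (QuotientGroup.mk' (Subgroup.center (Matrix.symplecticGroup (Fin 4) F))) (repS 4 F) r 4 M →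
      False := by
    rintro ⟨x, hxM, hxr, hx1, hxd⟩
    exact end_ominus h hSna hF hp hf hq hm hme hr hM hcard hsc (B := fun u v => sympBilin 4 F u v)
      (fun u v w => sympForm_add_left u v w) (fun u v w => sympForm_add_right w u v) sp_nd sp_iso
      (h.fin_type h0 hF hno hxM hxr hx1 hxd) (h.fin_no h0 hF hno hxM hxr hx1 hxd)
  obtain ⟨x, w₁, w₂, hxM, -, -, hx, h₁, h₂, hc₁, hc₂, h12, hno'⟩ := partB4_three hf hM hr
  exact fin (h.hasType_sq (sympBilin 4 F) sp_nd sp_iso hme hxM hx Nat.prime_three (by norm_num)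
    (by rw [hq2]; norm_num) h₁ h₂ hc₁ hc₂ h12 hno')

end PSp

end Cfsg.Agent.H946.DK
end

-- part: H899/Asm/Sp
section
/-!
# `NoFac (PSp_2m(q))`, `m ≥ 4` even, not `Sp_8(2)`, `Sp_12(2)` (helper899, S3679)
-/

set_option autoImplicit false

namespace Cfsg.Agent.H899.Asm

open Cfsg Cfsg.Agent.OrdDiv Cfsg.Agent.H899.CG

theorem noFac_psp (tab : OrderTable.{0}) (hK : H884.Row.KnownS) {F : Type} [Field F] [Fintype F] {m : ℕ} (hm : 4 ≤ m)
    (hme : Even m) (hexc : ¬ (Fintype.card F = 2 ∧ (m = 4 ∨ m = 6))) : NoFac (PSp m F) := by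
  intro S _ _ hS hSna A M l hM hF
  rcases H884.Row.row_psp tab hK (m := m) (by omega) (fun h => by omega) hM.1 with h | ⟨-, he, Q, -, -, hQ, hpol, hle⟩ |
    ⟨-, h⟩
  · exact hF.not_iGap h
  · exact H427.Fc.not_fac_spm hm hme he (fun h => hexc ⟨h.1, Or.inr h.2⟩) hS hSna hQ hpol hle hF
  · exact Pt.not_fac_psp_as hm hme hexc hS hSna h.as hF

/-- `Sp_8(2)` -/
theorem noFac_psp42 (tab : OrderTable.{0}) (hK : H884.Row.KnownS) {F : Type} [Field F] [Fintype F]
    (h2 : Fintype.card F = 2) : NoFac (PSp 4 F) := by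
  intro S _ _ hS hSna A M l hM hF
  rcases H884.Row.row_psp tab hK (m := 4) (by omega) (fun h => by omega) hM.1 with h | ⟨-, he, Q, -, -, hQ, hpol, hle⟩ |
    ⟨-, h⟩
  · exact hF.not_iGap h
  · exact H427.Fc.not_fac_spm le_rfl (by decide) he (fun h => by omega) hS hSna hQ hpol hle hF
  · have h1 := h.as
    rw [h2] at h1
    exact H946.DK.not_fac_sp8 h2 hS hSna h1 hF

end Cfsg.Agent.H899.Asm
end

-- part: H354/Fac/MFour
section
/-!
# `4 × 4` and `8 × 8` matrices over `ZMod 2`: commuting elements of order 5 in `Ω⁺8(2)` (helper354, S3679)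
-/

set_option autoImplicit false
set_option maxRecDepth 100000

namespace Cfsg.Agent.H354.Fac.MF

open Matrix

abbrev M4 : Type := Matrix (Fin 4) (Fin 4) (ZMod 2)

/-- companion matrix of `X ^ 4 + X ^ 3 + X ^ 2 + X + 1` -/
def g : M4 := !![0, 0, 0, 1; 1, 0, 0, 1; 0, 1, 0, 1; 0, 0, 1, 1]

/-- the Frobenius map -/
def t : M4 := !![1, 0, 1, 0; 0, 0, 1, 1; 0, 1, 1, 0; 0, 0, 1, 0]

/-- Gram matrix -/
def B : M4 := !![0, 1, 1, 1; 1, 0, 1, 1; 1, 1, 0, 1; 1, 1, 1, 0]

theorem g_five : g ^ 5 = 1 := by decide +kernel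
theorem g_ne : g ≠ 1 := by decide +kernel
theorem t_g : (t * t) * g = g ^ 4 * (t * t) := by decide +kernel
theorem fix_left : ∀ v : Fin 4 → ZMod 2, g *ᵥ v = v → v = 0 := by decide +kernel
theorem fix_right : ∀ v : Fin 4 → ZMod 2, v ᵥ* g = v → v = 0 := by decide +kernel

theorem fix_left' {m : M4} (h : g * m = m) : m = 0 := by
  ext i j
  have h1 := fix_left (fun k => m k j) (by
    funext k
    exact congrFun (congrFun h k) j)
  exact congrFun h1 i

theorem fix_right' {m : M4} (h : m * g = m) : m = 0 := by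
  ext i j
  have h1 := fix_right (m i) (by
    funext k
    exact congrFun (congrFun h i) k)
  exact congrFun h1 j

/-- the field `F₁₆` -/
def MM (v : Fin 4 → ZMod 2) : M4 := v 0 • 1 + v 1 • g + v 2 • g ^ 2 + v 3 • g ^ 3

theorem MM_col : ∀ v : Fin 4 → ZMod 2, ∀ i, MM v i 0 = v i := by decide +kernel

theorem g_col : ∀ j k : Fin 4, (g ^ (j : ℕ)) k 0 = if k = j then 1 else 0 := by decide +kernel

theorem MM_comm (v : Fin 4 → ZMod 2) : MM v * g = g * MM v := by
  revert v
  (delta Cfsg.Agent.H354.Fac.MF.MM; set_option synthInstance.maxSize 100000 in exact Cfsg.Agent.Lib.Refl.of (by decide +kernel))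

theorem comm_zero {m : M4} (h : m * g = g * m) (h0 : ∀ i, m i 0 = 0) : m = 0 := by
  ext i j
  have h1 : m * g ^ (j : ℕ) = g ^ (j : ℕ) * m := ((show Commute m g from h).pow_right _).eq
  have h2 := congrFun (congrFun h1 i) 0
  rw [mul_apply, mul_apply] at h2
  simp only [g_col, h0, mul_zero, Finset.sum_const_zero, mul_ite, mul_one, Finset.sum_ite_eq', Finset.mem_univ,
    if_true] at h2
  rw [h2, Matrix.zero_apply]

theorem comm_g {m : M4} (h : m * g = g * m) : m = MM fun i => m i 0 := by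
  rw [← sub_eq_zero]
  apply comm_zero
  · rw [sub_mul, mul_sub, h, MM_comm]
  · intro i
    rw [Matrix.sub_apply, MM_col, sub_self]

theorem unit_g : ∀ v : Fin 4 → ZMod 2, MM v * B * (MM v)ᵀ = B → ∃ i : Fin 5, MM v = g ^ (i : ℕ) := by (delta Cfsg.Agent.H354.Fac.MF.MM; set_option synthInstance.maxSize 100000 in exact Cfsg.Agent.Lib.Refl.of (by decide +kernel))

theorem cent_g {m : M4} (h : m * g = g * m) (hB : m * B * mᵀ = B) : ∃ i : ℕ, m = g ^ i := by
  have h1 := comm_g h
  rw [h1] at hB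
  obtain ⟨i, hi⟩ := unit_g _ hB
  exact ⟨i, h1.trans hi⟩

abbrev M8 : Type := Matrix (Fin 4 ⊕ Fin 4) (Fin 4 ⊕ Fin 4) (ZMod 2)

def T : M8 := fromBlocks !![1, 0, 0, 0; 0, 1, 0, 0; 0, 0, 1, 0; 0, 0, 0, 1] !![1, 0, 0, 0; 1, 1, 0, 0; 1, 1, 1, 0; 1, 1, 1, 1] !![1, 0, 0, 0; 0, 1, 0, 0; 0, 0, 1, 0; 0, 0, 0, 1] !![1, 1, 1, 1; 0, 1, 1, 1; 0, 0, 1, 1; 0, 0, 0, 1]
def Ti : M8 := fromBlocks !![1, 1, 1, 1; 1, 0, 0, 0; 0, 0, 1, 1; 1, 1, 1, 0] !![0, 1, 1, 1; 1, 1, 0, 0; 0, 0, 0, 1; 1, 1, 1, 1] !![0, 1, 1, 1; 1, 0, 1, 1; 1, 1, 0, 1; 1, 1, 1, 0] !![0, 1, 1, 1; 1, 0, 1, 1; 1, 1, 0, 1; 1, 1, 1, 0]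
def X1 : M8 := fromBlocks !![1, 1, 0, 0; 1, 0, 1, 0; 1, 0, 0, 1; 1, 0, 0, 0] !![1, 1, 0, 0; 1, 0, 1, 0; 1, 0, 0, 1; 0, 1, 1, 1] !![1, 0, 1, 0; 0, 1, 0, 1; 0, 0, 1, 0; 1, 0, 0, 1] !![1, 1, 1, 0; 0, 1, 1, 1; 1, 1, 0, 0; 0, 1, 1, 0]
def X2 : M8 := fromBlocks !![1, 0, 0, 0; 0, 0, 0, 1; 0, 0, 0, 1; 0, 0, 1, 1] !![0, 0, 0, 0; 0, 1, 1, 0; 0, 0, 1, 0; 0, 0, 1, 1] !![0, 0, 0, 0; 0, 1, 0, 1; 0, 1, 1, 0; 0, 0, 0, 1] !![1, 0, 0, 0; 0, 0, 1, 0; 0, 1, 1, 0; 0, 0, 0, 0]
def X3 : M8 := fromBlocks !![0, 1, 0, 1; 0, 1, 0, 0; 1, 0, 1, 1; 1, 1, 0, 0] !![1, 0, 1, 0; 1, 0, 0, 0; 1, 1, 0, 1; 1, 1, 1, 0] !![0, 0, 0, 0; 0, 0, 0, 0; 0, 0, 0, 0; 0, 0, 0, 0] !![0, 0, 1, 1; 1, 1, 0, 1; 0, 0, 1, 0; 1, 0, 1, 0]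

theorem T_Ti : T * Ti = 1 := by decide +kernel
theorem Ti_T : Ti * T = 1 := by decide +kernel
theorem T_J : T * fromBlocks 0 1 1 0 * Tᵀ = fromBlocks B 0 0 B := by decide +kernel

/-- transport -/
def W (m : M8) : M8 := Ti * m * T

theorem W_mul (m n : M8) : W m * W n = W (m * n) := by
  rw [W, W, W]
  calc Ti * m * T * (Ti * n * T) = Ti * m * (T * Ti) * n * T := by simp only [mul_assoc]
    _ = _ := by rw [T_Ti, mul_one, mul_assoc Ti m n]

theorem W_one : W 1 = 1 := by rw [W, mul_one, Ti_T]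

theorem W_inj {m n : M8} (h : W m = W n) : m = n := by
  have h1 : T * (Ti * m * T) * Ti = T * (Ti * n * T) * Ti := by
    rw [W, W] at h
    rw [h]
  have h2 : ∀ m : M8, T * (Ti * m * T) * Ti = m := fun m => by
    calc T * (Ti * m * T) * Ti = (T * Ti) * m * (T * Ti) := by simp only [mul_assoc]
      _ = m := by rw [T_Ti, one_mul, mul_one]
  rwa [h2, h2] at h1

theorem W_surj (z : M8) : ∃ m, z = W m := ⟨T * z * Ti, by
  calc z = (Ti * T) * z * (Ti * T) := by rw [Ti_T, one_mul, mul_one]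
    _ = _ := by rw [W]; simp only [mul_assoc]⟩

theorem W_pow (m : M8) (n : ℕ) : W m ^ n = W (m ^ n) := by
  induction n with
  | zero => rw [pow_zero, pow_zero, W_one]
  | succ n ih => rw [pow_succ, ih, W_mul, pow_succ]

/-- block diagonal -/
def D (a b : M4) : M8 := fromBlocks a 0 0 b

theorem D_mul (a b c d : M4) : D a b * D c d = D (a * c) (b * d) := by
  rw [D, D, D, fromBlocks_multiply]
  simp

theorem D_one : D 1 1 = 1 := fromBlocks_one

theorem D_pow (a b : M4) (n : ℕ) : D a b ^ n = D (a ^ n) (b ^ n) := by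
  induction n with
  | zero => rw [pow_zero, pow_zero, pow_zero, D_one]
  | succ n ih => rw [pow_succ, ih, D_mul, pow_succ, pow_succ]

theorem D_inj {a b a' b' : M4} (h : D a b = D a' b') : a = a' ∧ b = b' := by
  rw [D, D, fromBlocks_inj] at h
  exact ⟨h.1, h.2.2.2⟩

def sw : M8 := fromBlocks 0 1 1 0

theorem sw_D (a b : M4) : sw * D a b = D b a * sw := by
  rw [sw, D, D, fromBlocks_multiply, fromBlocks_multiply]
  simp

/-- the elements -/
def a8 : M8 := W (D g 1)
def b8 : M8 := W (D 1 g)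
def s8 : M8 := W sw
def c8 : M8 := W (D 1 (t * t))

theorem X1_a : X1 * X1 = a8 := by decide +kernel
theorem X2_c : X2 * X2 = c8 := by decide +kernel
theorem X3_s : X3 * X3 = s8 := by decide +kernel
theorem X1_i : X1 * X1 ^ 4 = 1 := by decide +kernel
theorem X1_i' : X1 ^ 4 * X1 = 1 := by decide +kernel
theorem X2_i : X2 * X2 ^ 3 = 1 := by decide +kernel
theorem X2_i' : X2 ^ 3 * X2 = 1 := by decide +kernel
theorem X3_i : X3 * X3 ^ 3 = 1 := by decide +kernel
theorem X3_i' : X3 ^ 3 * X3 = 1 := by decide +kernel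

theorem a_five : a8 ^ 5 = 1 := by rw [a8, W_pow, D_pow, g_five, one_pow, D_one, W_one]
theorem b_five : b8 ^ 5 = 1 := by rw [b8, W_pow, D_pow, g_five, one_pow, D_one, W_one]
theorem a_b : a8 * b8 = b8 * a8 := by
  rw [a8, b8, W_mul, W_mul, D_mul, D_mul]
  simp
theorem s_a : s8 * a8 = b8 * s8 := by rw [s8, a8, b8, W_mul, W_mul, sw_D]
theorem c_a : c8 * a8 = a8 * c8 := by
  rw [c8, a8, W_mul, W_mul, D_mul, D_mul]
  simp
theorem c_b : c8 * b8 = b8 ^ 4 * c8 := by
  rw [c8, b8, W_pow, D_pow, W_mul, W_mul, D_mul, D_mul, t_g]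
  simp
theorem b_ne (i : ℕ) : b8 ≠ a8 ^ i := by
  intro h
  rw [a8, b8, W_pow, D_pow, one_pow] at h
  exact g_ne (D_inj (W_inj h)).2
theorem a_ne : a8 ≠ 1 := by
  intro h
  rw [a8, ← W_one, ← D_one] at h
  exact g_ne (D_inj (W_inj h)).1
theorem b_ne_one : b8 ≠ 1 := by
  intro h
  exact b_ne 0 (by rw [h, pow_zero])

theorem form_of {T Ti J K w : M8} (h1 : T * Ti = 1) (hK : T * J * Tᵀ = K) (h : (Ti * w * T) * J * (Ti * w * T)ᵀ = J) :
    w * K * wᵀ = K := by
  have h3 : w * T = T * (Ti * w * T) := by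
    calc w * T = (T * Ti) * w * T := by rw [h1, one_mul]
      _ = _ := by simp only [mul_assoc]
  have h2 : Tᵀ * wᵀ = (Ti * w * T)ᵀ * Tᵀ := by rw [← transpose_mul, ← transpose_mul, h3]
  rw [← hK]
  calc w * (T * J * Tᵀ) * wᵀ = (w * T) * J * (Tᵀ * wᵀ) := by simp only [mul_assoc]
    _ = T * ((Ti * w * T) * J * (Ti * w * T)ᵀ) * Tᵀ := by rw [h2, h3]; simp only [mul_assoc]
    _ = _ := by rw [h]

/-- **the centralizer in `Sp8(2)`** -/
theorem cent_sp {z : M8} (ha : z * a8 = a8 * z) (hb : z * b8 = b8 * z)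
    (hJ : z * fromBlocks 0 1 1 0 * zᵀ = fromBlocks 0 1 1 0) : ∃ i j : ℕ, z = a8 ^ i * b8 ^ j := by
  obtain ⟨w, rfl⟩ := W_surj z
  rw [a8, W_mul, W_mul] at ha
  rw [b8, W_mul, W_mul] at hb
  have ha' := W_inj ha
  have hb' := W_inj hb
  rw [D, ← fromBlocks_toBlocks w, fromBlocks_multiply, fromBlocks_multiply, fromBlocks_inj] at ha' hb'
  simp only [mul_zero, zero_mul, mul_one, one_mul, add_zero, zero_add] at ha' hb'
  obtain ⟨a1, a2, a3, -⟩ := ha'
  obtain ⟨-, -, -, b4⟩ := hb'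
  have h12 : w.toBlocks₁₂ = 0 := fix_left' a2.symm
  have h21 : w.toBlocks₂₁ = 0 := fix_right' a3
  have hw : w = D w.toBlocks₁₁ w.toBlocks₂₂ := by
    conv_lhs => rw [← fromBlocks_toBlocks w, h12, h21]
    rfl
  have hJ2 : w * fromBlocks B 0 0 B * wᵀ = fromBlocks B 0 0 B := form_of T_Ti T_J hJ
  rw [hw, D, fromBlocks_transpose, fromBlocks_multiply, fromBlocks_multiply, fromBlocks_inj] at hJ2
  simp only [mul_zero, zero_mul, add_zero, zero_add] at hJ2
  obtain ⟨i, hi⟩ := cent_g a1 hJ2.1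
  obtain ⟨j, hj⟩ := cent_g b4 hJ2.2.2.2
  refine ⟨i, j, ?_⟩
  rw [hw, hi, hj, a8, b8, W_pow, W_pow, D_pow, D_pow, W_mul, D_mul, one_pow, one_pow, one_mul, mul_one]

end Cfsg.Agent.H354.Fac.MF
end

-- part: H354/Fac/TO8
section
/-!
# The data in `Ω⁺8(2)` and `Sp8(2)`, `p = 5` (helper354, S3679)
-/

set_option autoImplicit false
set_option maxRecDepth 100000

namespace Cfsg.Agent.H354.Fac.OE

open Matrix Subgroup Cfsg.Agent.H354.Fac.MF
open Cfsg.Agent.H503.El.O8 (S8 T8 rho e8 rho_injective rho_iso center_s8)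

theorem J_eq : Matrix.J (Fin 4) (ZMod 2) = fromBlocks 0 1 1 0 := by
  rw [Matrix.J]
  congr 1
  ext i j
  rw [Matrix.neg_apply]
  exact ZMod.neg_eq_self_mod_two _

abbrev Sp8 : Type := symplecticGroup (Fin 4) (ZMod 2)

theorem mem_sp {z : M8} : z ∈ symplecticGroup (Fin 4) (ZMod 2) ↔
    z * fromBlocks 0 1 1 0 * zᵀ = fromBlocks 0 1 1 0 := by
  rw [SymplecticGroup.mem_iff, J_eq]

theorem hpol (u v : Fin 4 ⊕ Fin 4 → ZMod 2) :
    QuadraticMap.polar (quadFormPlus 4 (ZMod 2)) u v = sympForm 4 (ZMod 2) u v := by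
  have h1 : Matrix.J (Fin 4) (ZMod 2) *ᵥ v = Sum.elim (v ∘ Sum.inr) (v ∘ Sum.inl) := by
    rw [J_eq]
    conv_lhs => rw [← Sum.elim_comp_inl_inr v]
    rw [fromBlocks_mulVec]
    simp
  have q_eq : ∀ v : Fin 4 ⊕ Fin 4 → ZMod 2, quadFormPlus 4 (ZMod 2) v = (v ∘ Sum.inl) ⬝ᵥ (v ∘ Sum.inr) :=
    fun v => rfl
  rw [sympForm, h1]
  conv_rhs => rw [← Sum.elim_comp_inl_inr u]
  rw [sumElim_dotProduct_sumElim, QuadraticMap.polar, q_eq, q_eq, q_eq]
  have h2 : (u + v) ∘ Sum.inl = u ∘ Sum.inl + v ∘ Sum.inl := rfl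
  have h3 : (u + v) ∘ Sum.inr = u ∘ Sum.inr + v ∘ Sum.inr := rfl
  rw [h2, h3, add_dotProduct, dotProduct_add, dotProduct_add, dotProduct_comm (v ∘ Sum.inl) (u ∘ Sum.inr)]
  ring

/-- into the symplectic group -/
def tS : S8 →* Sp8 := (H81.SaxSp.toSp hpol).comp (Omega (ZMod 2) (quadFormPlus 4 (ZMod 2))).subtype

theorem tS_val (x : S8) : ((tS x : Sp8) : M8) = rho x := rfl

theorem tS_inj : Function.Injective tS := by
  intro A B h
  have h1 := congrArg Subtype.val h
  exact Subtype.ext (Subtype.ext (Units.ext h1))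

/-- the isometry with the given matrix -/
def isoOf (A B : M8) (h : A * B = 1) (h' : B * A = 1) (hA : ∀ v, quadFormPlus 4 (ZMod 2) (A.mulVec v) =
    quadFormPlus 4 (ZMod 2) v) : isometryGroup (ZMod 2) (quadFormPlus 4 (ZMod 2)) :=
  ⟨⟨A, B, h, h'⟩, ClassicalGeometry.IsoTransfer.mem_isometryGroup_iff.2 hA⟩

/-- squares are in `Ω` -/
def sqOf (A B : M8) (h : A * B = 1) (h' : B * A = 1) (hA : ∀ v, quadFormPlus 4 (ZMod 2) (A.mulVec v) =
    quadFormPlus 4 (ZMod 2) v) : S8 :=
  ⟨isoOf A B h h' hA ^ 2, Subgroup.sq_mem_of_index_two (index_omega (F := ZMod 2) (ZMod.card 2) le_rfl center_s8) _⟩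

theorem rho_sqOf (A B : M8) (h : A * B = 1) (h' : B * A = 1) (hA : ∀ v, quadFormPlus 4 (ZMod 2) (A.mulVec v) =
    quadFormPlus 4 (ZMod 2) v) : rho (sqOf A B h h' hA) = A * A := by
  change (((isoOf A B h h' hA ^ 2 : isometryGroup (ZMod 2) (quadFormPlus 4 (ZMod 2))) :
    GL (Fin 4 ⊕ Fin 4) (ZMod 2)) : M8) = _
  rw [pow_two]
  rfl

theorem X1_iso : ∀ v, quadFormPlus 4 (ZMod 2) (X1.mulVec v) = quadFormPlus 4 (ZMod 2) v := by decide +kernel
theorem X2_iso : ∀ v, quadFormPlus 4 (ZMod 2) (X2.mulVec v) = quadFormPlus 4 (ZMod 2) v := by decide +kernel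
theorem X3_iso : ∀ v, quadFormPlus 4 (ZMod 2) (X3.mulVec v) = quadFormPlus 4 (ZMod 2) v := by decide +kernel

def aO : S8 := sqOf X1 (X1 ^ 4) X1_i X1_i' X1_iso
def cO : S8 := sqOf X2 (X2 ^ 3) X2_i X2_i' X2_iso
def sO : S8 := sqOf X3 (X3 ^ 3) X3_i X3_i' X3_iso
def bO : S8 := sO * aO * sO⁻¹

theorem rho_a : rho aO = a8 := (rho_sqOf _ _ _ _ _).trans X1_a
theorem rho_c : rho cO = c8 := (rho_sqOf _ _ _ _ _).trans X2_c
theorem rho_s : rho sO = s8 := (rho_sqOf _ _ _ _ _).trans X3_s

theorem rho_b : rho bO = b8 := by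
  have h1 : rho sO * rho sO⁻¹ = 1 := by rw [← _root_.MonoidHom.map_mul, mul_inv_cancel, _root_.MonoidHom.map_one]
  (simp only [bO]; rewrite [_root_.MonoidHom.map_mul]; simp only [_root_.MonoidHom.map_mul]; simp only [rho_s]; simp only [rho_a]; simp only [s_a]; simp only [← rho_s]; rewrite [mul_assoc, h1, mul_one]; with_reducible rfl)

theorem aO_five : orderOf aO = 5 := by
  have hp : Fact (Nat.Prime 5) := ⟨by norm_num⟩
  apply orderOf_eq_prime
  · exact rho_injective (by simp only [map_pow, rho_a, a_five, map_one])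
  · intro h
    exact a_ne (by rw [← rho_a, h, map_one])

theorem bO_five : orderOf bO = 5 := by
  have hp : Fact (Nat.Prime 5) := ⟨by norm_num⟩
  apply orderOf_eq_prime
  · exact rho_injective (by simp only [map_pow, rho_b, b_five, map_one])
  · intro h
    exact b_ne_one (by rw [← rho_b, h, map_one])

theorem aO_bO : aO * bO = bO * aO := rho_injective (by simp only [_root_.MonoidHom.map_mul, _root_.MonoidHom.map_mul, rho_a, rho_b, a_b])

theorem cO_aO : cO * aO * cO⁻¹ = aO := (conj_of (rho_injective (by simp only [_root_.MonoidHom.map_mul, _root_.MonoidHom.map_mul, rho_c, rho_a, c_a])) : _)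

theorem cO_bO : cO * bO * cO⁻¹ = bO ^ (-1 : ℤ) := by
  have h1 : bO ^ (-1 : ℤ) = bO ^ 4 := by
    rw [_root_.zpow_neg_one, inv_eq_iff_mul_eq_one, ← pow_succ', show 4 + 1 = orderOf bO from bO_five.symm]
    exact pow_orderOf_eq_one _
  rw [h1]
  exact conj_of (rho_injective (by simp only [_root_.MonoidHom.map_mul, _root_.MonoidHom.map_mul, _root_.MonoidHom.map_pow, rho_c, rho_b, c_b]))

theorem bO_nmem : bO ∉ zpowers aO := by
  intro h
  have h1 : bO ∈ Submonoid.powers aO := mem_powers_iff_mem_zpowers.2 h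
  obtain ⟨i, hi⟩ := Submonoid.mem_powers_iff _ _ |>.1 h1
  exact b_ne i (by simp only [← rho_b, ← rho_a, ← hi, map_pow])

/-- the centralizer in `Sp8(2)` -/
theorem cent_S {z : Sp8} (ha : z * tS aO = tS aO * z) (hb : z * tS bO = tS bO * z) :
    ∃ i j : ℕ, z = tS aO ^ i * tS bO ^ j := by
  have ha' := congrArg Subtype.val ha
  have hb' := congrArg Subtype.val hb
  rw [Submonoid.coe_mul, Submonoid.coe_mul, tS_val, rho_a] at ha'
  rw [Submonoid.coe_mul, Submonoid.coe_mul, tS_val, rho_b] at hb'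
  obtain ⟨i, j, hij⟩ := cent_sp ha' hb' (mem_sp.1 z.2)
  refine ⟨i, j, Subtype.ext ?_⟩
  simp only [hij, ← rho_a, ← rho_b, ← tS_val, ← tS_val]
  rfl

theorem gd_s8 : GD S8 5 (-1) := by
  refine ⟨aO, bO, sO, cO, ⟨aO_five, bO_five, aO_bO, bO_nmem⟩, rfl, cO_aO, cO_bO, ?_, by norm_num⟩
  intro z hza hzb
  obtain ⟨i, j, hij⟩ := cent_S (z := tS z) (by simp only [← _root_.MonoidHom.map_mul tS z aO, hza, _root_.MonoidHom.map_mul tS aO z]) (by simp only [← _root_.MonoidHom.map_mul tS z bO, hzb, _root_.MonoidHom.map_mul tS bO z])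
  have h5 : z = aO ^ i * bO ^ j := tS_inj (by simp only [hij, _root_.MonoidHom.map_mul, _root_.MonoidHom.map_pow, _root_.MonoidHom.map_pow])
  rw [h5]
  exact mul_mem (mem_sup_left (pow_mem (mem_zpowers _) _)) (mem_sup_right (pow_mem (mem_zpowers _) _))

theorem gd_t8 : GD T8 5 (-1) := gd_s8.congr (by exact e8)

theorem gd_pom4 (F : Type) [Field F] [Fintype F] (hF : Fintype.card F = 2) :
    GD (POmega F (quadFormPlus 4 F)) 5 (-1) := by
  obtain ⟨e⟩ : Nonempty (POmega (ZMod 2) (quadFormPlus 4 (ZMod 2)) ≃* POmega F (quadFormPlus 4 F)) :=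
    UGT.U2.Rec.Congr.nonempty_POmega (ZMod.ringEquivOfPrime F Nat.prime_two hF) fun v => by
      simp only [quadFormPlus, _root_.RingEquiv.map_sum, _root_.RingEquiv.map_mul, _root_.Function.comp_apply]
  exact gd_t8.congr e

end Cfsg.Agent.H354.Fac.OE
end

-- part: H427/Fc/POne
section
/-!
# S3679, the row `T = Ω⁺8(2)`: subgroups with a normal `2`-subgroup and many elements of order `3` fix a vector
-/

set_option autoImplicit false

namespace Cfsg.Agent.H427.Fc.POne

open Cfsg Module QuadraticMap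
open scoped Matrix MatrixGroups

/-- the kernel of a representation over a finite field -/
theorem exists_ker {F W M : Type*} [Field F] [Fintype F] [AddCommGroup W] [Module F W] [FiniteDimensional F W] [Group M]
    (σ : Representation F M W) {d : ℕ} (hd : finrank F W = d) :
    ∃ K : Subgroup M, K.Normal ∧ (∀ g, g ∈ K ↔ ∀ w, σ g w = w) ∧ K.index ∣ Nat.card (GL (Fin d) F) := by
  refine ⟨(σ.toHomUnits).ker, inferInstance, fun g => ?_, ?_⟩
  · rw [MonoidHom.mem_ker]
    constructor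
    · intro h w
      have h1 : ((σ.toHomUnits g : (Module.End F W)ˣ) : Module.End F W) w = w := by rw [h]; rfl
      exact h1
    · intro h
      apply Units.ext
      apply LinearMap.ext
      exact h
  · rw [Subgroup.index_ker]
    have h1 : Nat.card (Module.End F W)ˣ = Nat.card (GL (Fin d) F) :=
      Nat.card_congr (Units.mapEquiv
        (LinearMap.toMatrixAlgEquiv (finBasisOfFinrankEq F W hd)).toMulEquiv).toEquiv
    rw [← h1]
    exact Subgroup.card_subgroup_dvd_card _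

theorem mem_of_index {M : Type*} [Group M] {K : Subgroup M} (hK : K.Normal) (h7 : ¬ 7 ∣ K.index) {x : M}
    (hx : x ^ 7 = 1) : x ∈ K := by
  have h1 : ((x : M ⧸ K)) ^ 7 = 1 := by
    rw [← QuotientGroup.mk_pow, hx, QuotientGroup.mk_one]
  have h2 : orderOf (x : M ⧸ K) ∣ 7 := orderOf_dvd_of_pow_eq_one h1
  have h3 : orderOf (x : M ⧸ K) ∣ K.index := by
    rw [Subgroup.index_eq_card]
    exact orderOf_dvd_natCard _
  rcases (Nat.dvd_prime (by norm_num : Nat.Prime 7)).1 h2 with h4 | h4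
  · rw [orderOf_eq_one_iff] at h4
    exact (QuotientGroup.eq_one_iff x).1 h4
  · exact absurd (h4 ▸ h3) h7

set_option linter.unusedSectionVars false

variable {F V M : Type*} [Field F] [Fintype F] [AddCommGroup V] [Module F V] [FiniteDimensional F V] [Group M]
  [Finite M]

theorem two_eq (hF : Fintype.card F = 2) : (2 : F) = 0 := by
  have h1 : ((Fintype.card F : ℕ) : F) = 0 := FiniteField.cast_card_eq_zero F
  rw [hF] at h1
  exact_mod_cast h1

theorem all_eq (hF : Fintype.card F = 2) (c : F) : c = 0 ∨ c = 1 := by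
  classical
  by_contra hc
  push Not at hc
  have h1 : ({0, 1, c} : Finset F).card = 3 := by
    rw [Finset.card_eq_three]
    exact ⟨0, 1, c, zero_ne_one, hc.1.symm, hc.2.symm, rfl⟩
  have h2 := Finset.card_le_univ ({0, 1, c} : Finset F)
  omega

theorem add_self' (hF : Fintype.card F = 2) (v : V) : v + v = 0 := by
  rw [← two_smul F v, two_eq hF, zero_smul]

/-- an invariant submodule with a unique nonzero vector -/
theorem fix_of_unique {ρ : Representation F M V} {U : Submodule F V} (hU : ∀ g, ∀ v ∈ U, ρ g v ∈ U) {u : V}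
    (hu : u ∈ U) (hu0 : u ≠ 0) (hun : ∀ v ∈ U, v ≠ 0 → v = u) : ∃ v : V, v ≠ 0 ∧ ∀ g : M, ρ g v = v := by
  refine ⟨u, hu0, fun g => hun _ (hU g u hu) ?_⟩
  intro h
  apply hu0
  have h1 : ρ g⁻¹ (ρ g u) = u := by
    rw [← Module.End.mul_apply, ← map_mul, inv_mul_cancel, map_one]
    rfl
  rw [h, map_zero] at h1
  exact h1.symm

theorem polar_inv {Q : QuadraticForm F V} {ρ : Representation F M V} (hQ : ∀ g v, Q (ρ g v) = Q v) (g : M) (v w : V) :
    polarBilin Q (ρ g v) (ρ g w) = polarBilin Q v w := by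
  rw [polarBilin_apply_apply, polarBilin_apply_apply, QuadraticMap.polar, QuadraticMap.polar, ← map_add, hQ, hQ, hQ]

theorem rho_inv {ρ : Representation F M V} (g : M) (v : V) : ρ g (ρ g⁻¹ v) = v := by
  rw [← Module.End.mul_apply, ← map_mul, mul_inv_cancel, map_one]
  rfl

/-- the orthogonal space of an invariant subspace is invariant -/
theorem orth_inv {Q : QuadraticForm F V} {ρ : Representation F M V} (hQ : ∀ g v, Q (ρ g v) = Q v) {U : Submodule F V}
    (hU : ∀ g, ∀ v ∈ U, ρ g v ∈ U) (g : M) (v : V) (hv : v ∈ LinearMap.BilinForm.orthogonal (polarBilin Q) U) :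
    ρ g v ∈ LinearMap.BilinForm.orthogonal (polarBilin Q) U := by
  intro w hw
  have h1 : polarBilin Q (ρ g (ρ g⁻¹ w)) (ρ g v) = 0 := by
    rw [polar_inv hQ]
    exact hv _ (hU _ _ hw)
  rw [rho_inv] at h1
  exact h1

theorem card_GL_two (hF : Fintype.card F = 2) : Nat.card (GL (Fin 2) F) = 6 := by
  rw [Matrix.card_GL_field, hF]
  decide

theorem card_GL_three (hF : Fintype.card F = 2) : Nat.card (GL (Fin 3) F) = 168 := by
  rw [Matrix.card_GL_field, hF]
  decide

theorem card_GL_four (hF : Fintype.card F = 2) : Nat.card (GL (Fin 4) F) = 20160 := by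
  rw [Matrix.card_GL_field, hF]
  simp only [Fin.prod_univ_four, _root_.Nat.reducePow, _root_.Fin.isValue, _root_.Fin.coe_ofNat_eq_mod, _root_.Nat.zero_mod, _root_.pow_zero, _root_.Nat.add_one_sub_one, _root_.Nat.one_mod, _root_.pow_one, _root_.Nat.reduceSub, _root_.Nat.reduceMul, _root_.Nat.reduceMod, _root_.Nat.mod_succ]

theorem card_GL_zero (hF : Fintype.card F = 2) : Nat.card (GL (Fin 0) F) = 1 := by
  rw [Matrix.card_GL_field, hF]
  simp

/-- an element acting trivially on the factors of `0 < R < R' < V` has order dividing `4` -/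
theorem unip {ρ : Representation F M V} (hρ : Function.Injective ρ) (hF : Fintype.card F = 2) {R P : Submodule F V} {x : M}
    (hx : x ^ 7 = 1) (h1 : ∀ v ∈ R, ρ x v = v) (h2 : ∀ v ∈ P, ρ x v - v ∈ R) (h3 : ∀ v, ρ x v - v ∈ P) : x = 1 := by
  have h4 : ∀ v, ρ (x ^ 4) v = v := by
    intro v
    obtain ⟨a, ha⟩ : ∃ a, a = ρ x v - v := ⟨_, rfl⟩
    obtain ⟨b, hb⟩ : ∃ b, b = ρ x a - a := ⟨_, rfl⟩
    have haP : a ∈ P := by rw [ha]; exact h3 v
    have hbR : b ∈ R := by rw [hb]; exact h2 a haP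
    have e1 : ρ x v = v + a := by rw [ha]; abel
    have e2 : ρ x a = a + b := by rw [hb]; abel
    have e3 : ρ x b = b := h1 b hbR
    have e4 : ρ (x ^ 2) v = v + b := by
      rw [pow_two, map_mul, Module.End.mul_apply, e1, map_add, e1, e2]
      have h5 := add_self' hF a
      calc v + a + (a + b) = v + b + (a + a) := by abel
        _ = v + b := by rw [h5, add_zero]
    have e5 : ρ (x ^ 2) b = b := by
      rw [pow_two, map_mul, Module.End.mul_apply, e3, e3]
    have e6 : x ^ 4 = x ^ 2 * x ^ 2 := by group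
    rw [e6, map_mul, Module.End.mul_apply, e4, map_add, e4, e5, add_assoc, add_self' hF, add_zero]
  have h5 : x ^ 4 = 1 := by
    apply hρ
    rw [map_one]
    exact LinearMap.ext h4
  calc x = (x ^ 4) ^ 2 * (x ^ 7)⁻¹ := by group
    _ = 1 := by rw [h5, hx]; simp

theorem fix_aux (hF : Fintype.card F = 2) (Q : QuadraticForm F V) (hnd : (polarBilin Q).Nondegenerate)
    (h8 : finrank F V = 8) (ρ : Representation F M V) (hρ : Function.Injective ρ) (hQ : ∀ g v, Q (ρ g v) = Q v)
    {O : Subgroup M} [O.Normal] (h2 : IsPGroup 2 O) (h1 : O ≠ ⊥) (h7 : 7 ∣ Nat.card M) (h49 : ¬ 49 ∣ Nat.card M)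
    (h27 : ∀ K : Subgroup M, K.Normal → ¬ 7 ∣ Nat.card K → 27 ∣ K.index) :
    ∃ v : V, v ≠ 0 ∧ ∀ g : M, ρ g v = v := by
  classical
  have h20 := two_eq hF
  haveI : CharP F 2 := CharTwo.of_one_ne_zero_of_two_eq_zero one_ne_zero h20
  haveI : Fact (Nat.Prime 2) := ⟨Nat.prime_two⟩
  have hrefl : (polarBilin Q).IsRefl := by
    intro v w h
    rw [polarBilin_apply_apply] at h ⊢
    rw [polar_comm]
    exact h
  obtain ⟨V0, hV0⟩ : ∃ V0 : Submodule F V, ∀ v, v ∈ V0 ↔ ∀ g ∈ O, ρ g v = v :=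
    ⟨{ carrier := {v | ∀ g ∈ O, ρ g v = v}
       zero_mem' := fun g _ => map_zero _
       add_mem' := fun {a b} ha hb g hg => by rw [map_add, ha g hg, hb g hg]
       smul_mem' := fun c a ha g hg => by rw [map_smul, ha g hg] }, fun v => Iff.rfl⟩
  have hV0i : ∀ g, ∀ v ∈ V0, ρ g v ∈ V0 := by
    intro g v hv
    rw [hV0] at hv ⊢
    intro k hk
    have h3 : k * g = g * (g⁻¹ * k * g) := by group
    have h4 : g⁻¹ * k * g ∈ O := by
      have := Subgroup.Normal.conj_mem (inferInstance : O.Normal) k hk g⁻¹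
      rwa [inv_inv] at this
    rw [← Module.End.mul_apply, ← map_mul, h3, map_mul, Module.End.mul_apply, hv _ h4]
  obtain ⟨P0, hP0⟩ : ∃ P0, P0 = LinearMap.BilinForm.orthogonal (polarBilin Q) V0 := ⟨_, rfl⟩
  have hP0i : ∀ g, ∀ v ∈ P0, ρ g v ∈ P0 := by
    rw [hP0]
    exact fun g v hv => orth_inv hQ hV0i g v hv
  have hP0b : P0 ≠ ⊥ := by
    intro h
    have h3 := LinearMap.BilinForm.finrank_orthogonal hnd V0
    rw [← hP0, h, finrank_bot] at h3
    have h4 : V0 = ⊤ := Submodule.eq_top_of_finrank_eq (by have := Submodule.finrank_le V0; omega)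
    apply h1
    rw [eq_bot_iff]
    intro g hg
    rw [Subgroup.mem_bot]
    apply hρ
    rw [map_one]
    apply LinearMap.ext
    intro v
    exact (hV0 v).1 (h4 ▸ Submodule.mem_top) g hg
  obtain ⟨w0, hw0P, hw00, hw0⟩ := Lib.PGroupFixedVector.exists_mem_ne_zero_fixed_rep h2 (ρ.comp O.subtype) P0
    (fun g v hv => hP0i g v hv) hP0b
  have hw0V : w0 ∈ V0 := (hV0 _).2 fun g hg => hw0 ⟨g, hg⟩
  -- the radical
  have hpR : ∀ v ∈ V0 ⊓ P0, ∀ w ∈ V0 ⊓ P0, polar Q v w = 0 := by
    intro v hv w hw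
    have := hw.2
    rw [hP0] at this
    exact this v hv.1
  obtain ⟨R, hR⟩ : ∃ R : Submodule F V, ∀ v, v ∈ R ↔ (v ∈ V0 ⊓ P0 ∧ Q v = 0) :=
    ⟨{ carrier := {v | v ∈ V0 ⊓ P0 ∧ Q v = 0}
       zero_mem' := ⟨Submodule.zero_mem _, map_zero _⟩
       add_mem' := fun {a b} ha hb => ⟨Submodule.add_mem _ ha.1 hb.1, by
         have h3 := hpR a ha.1 b hb.1
         rw [QuadraticMap.polar, ha.2, hb.2] at h3
         simpa only [_root_.sub_zero] using h3⟩
       smul_mem' := fun c a ha => ⟨Submodule.smul_mem _ _ ha.1, by rw [QuadraticMap.map_smul, ha.2, smul_zero]⟩ },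
      fun v => Iff.rfl⟩
  have hRi : ∀ g, ∀ v ∈ R, ρ g v ∈ R := by
    intro g v hv
    rw [hR] at hv ⊢
    exact ⟨⟨hV0i g v hv.1.1, hP0i g v hv.1.2⟩, by rw [hQ]; exact hv.2⟩
  by_cases hRb : R = ⊥
  · refine fix_of_unique (U := V0 ⊓ P0) (fun g v hv => ⟨hV0i g v hv.1, hP0i g v hv.2⟩) ⟨hw0V, hw0P⟩ hw00 ?_
    intro v hv hv0
    have key : ∀ u ∈ V0 ⊓ P0, u ≠ 0 → Q u = 1 := by
      intro u hu hu0
      rcases all_eq hF (Q u) with h3 | h3
      · exfalso
        apply hu0
        have : u ∈ R := (hR u).2 ⟨hu, h3⟩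
        rw [hRb] at this
        exact this
      · exact h3
    have h3 : v + w0 ∈ R := by
      rw [hR]
      refine ⟨Submodule.add_mem _ hv ⟨hw0V, hw0P⟩, ?_⟩
      have h4 := hpR v hv w0 ⟨hw0V, hw0P⟩
      rw [QuadraticMap.polar, key v hv hv0, key w0 ⟨hw0V, hw0P⟩ hw00] at h4
      linear_combination h4 + h20
    rw [hRb, Submodule.mem_bot] at h3
    have h4 := add_self' hF w0
    have h5 : v + w0 = w0 + w0 := by rw [h3, h4]
    exact add_right_cancel h5
  by_cases hR1 : finrank F R = 1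
  · obtain ⟨u, hu0, hu⟩ := finrank_eq_one_iff'.1 hR1
    refine fix_of_unique (U := R) hRi u.2 (fun h => hu0 (Subtype.ext h)) ?_
    intro v hv hv0
    obtain ⟨c, hc⟩ := hu ⟨v, hv⟩
    rcases all_eq hF c with h3 | h3
    · exfalso
      apply hv0
      have := congrArg Subtype.val hc
      rw [h3] at this
      simpa using this.symm
    · have := congrArg Subtype.val hc
      rw [h3] at this
      simpa using this.symm
  exfalso
  obtain ⟨P, hP⟩ : ∃ P, P = LinearMap.BilinForm.orthogonal (polarBilin Q) R := ⟨_, rfl⟩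
  have hPi : ∀ g, ∀ v ∈ P, ρ g v ∈ P := by
    rw [hP]
    exact fun g v hv => orth_inv hQ hRi g v hv
  have hRP : R ≤ P := by
    intro v hv
    rw [hP]
    intro w hw
    exact hpR w ((hR w).1 hw).1 v ((hR v).1 hv).1
  have hdP : finrank F P = 8 - finrank F R := by
    rw [hP, LinearMap.BilinForm.finrank_orthogonal hnd R, h8]
  have hle : finrank F R ≤ finrank F P := Submodule.finrank_mono hRP
  have hR0 : finrank F R ≠ 0 := fun h => hRb (Submodule.finrank_eq_zero.1 h)
  -- the two actions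
  obtain ⟨r, hr⟩ : ∃ r, finrank F R = r := ⟨_, rfl⟩
  obtain ⟨K1, hK1n, hK1, hK1i⟩ := exists_ker (ρ.subrepresentation R fun g v hv => hRi g v hv) hr
  have hsub : finrank F (↥P ⧸ R.submoduleOf P) = 8 - 2 * r := by
    have h3 := Submodule.finrank_quotient_add_finrank (R.submoduleOf P)
    have h4 : finrank F (R.submoduleOf P) = finrank F R := (Submodule.submoduleOfEquivOfLe hRP).finrank_eq
    rw [h4] at h3
    (clear * - hdP hr h3; omega)
  have hinv : ∀ g, R.submoduleOf P ≤ (R.submoduleOf P).comap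
      ((ρ.subrepresentation P fun g v hv => hPi g v hv) g) := by
    intro g v hv
    exact hRi g v.1 hv
  obtain ⟨K2, hK2n, hK2, hK2i⟩ := exists_ker ((ρ.subrepresentation P fun g v hv => hPi g v hv).quotient
    (R.submoduleOf P) hinv) hsub
  haveI : Fact (Nat.Prime 7) := ⟨by norm_num⟩
  obtain ⟨x, hx⟩ := exists_prime_orderOf_dvd_card' 7 h7
  have hx7 : x ^ 7 = 1 := by rw [← hx]; exact pow_orderOf_eq_one x
  have hx1 : x ≠ 1 := by
    intro h
    rw [h, orderOf_one] at hx
    omega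
  have hnot : ¬ (x ∈ K1 ∧ x ∈ K2) := by
    rintro ⟨h3, h4⟩
    apply hx1
    refine unip hρ hF (R := R) (P := P) hx7 ?_ ?_ ?_
    · intro v hv
      exact congrArg Subtype.val ((hK1 x).1 h3 ⟨v, hv⟩)
    · intro v hv
      have h5 := (hK2 x).1 h4 (Submodule.Quotient.mk ⟨v, hv⟩)
      rw [Representation.quotient_apply, Submodule.mapQ_apply, Submodule.Quotient.eq] at h5
      exact h5
    · intro v
      rw [hP]
      intro w hw
      have h5 : ρ x w = w := congrArg Subtype.val ((hK1 x).1 h3 ⟨w, hw⟩)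
      have h6 := polar_inv hQ x w v
      rw [h5] at h6
      change polarBilin Q w (ρ x v - v) = 0
      rw [map_sub, h6, sub_self]
  have hmain : ∀ K : Subgroup M, K.Normal → x ∉ K → 27 ∣ K.index := by
    intro K hK hxK
    apply h27 K hK
    intro h3
    have h4 : 7 ∣ K.index := by
      by_contra h4
      exact hxK (mem_of_index hK h4 hx7)
    apply h49
    rw [← K.card_mul_index]
    exact Nat.mul_dvd_mul h3 h4
  have hr4 : r ≤ 4 := by omega
  interval_cases r
  · exact hR0 hr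
  · exact hR1 hr
  · -- `r = 2`
    rw [card_GL_two hF] at hK1i
    have h3 : x ∈ K1 := mem_of_index hK1n (fun h => by have := h.trans hK1i; omega) hx7
    have h4 := hmain K2 hK2n fun h => hnot ⟨h3, h⟩
    rw [show 8 - 2 * 2 = 4 from rfl, card_GL_four hF] at hK2i
    have := h4.trans hK2i
    omega
  · rw [show 8 - 2 * 3 = 2 from rfl, card_GL_two hF] at hK2i
    have h3 : x ∈ K2 := mem_of_index hK2n (fun h => by have := h.trans hK2i; omega) hx7
    have h4 := hmain K1 hK1n fun h => hnot ⟨h, h3⟩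
    rw [card_GL_three hF] at hK1i
    have := h4.trans hK1i
    omega
  · rw [show 8 - 2 * 4 = 0 from rfl, card_GL_zero hF] at hK2i
    have h3 : x ∈ K2 := mem_of_index hK2n (fun h => by have := h.trans hK2i; omega) hx7
    have h4 := hmain K1 hK1n fun h => hnot ⟨h, h3⟩
    rw [card_GL_four hF] at hK1i
    have := h4.trans hK1i
    omega

end Cfsg.Agent.H427.Fc.POne

namespace Cfsg.Agent.H427.Fc

open Cfsg Module QuadraticMap POne LieClassical.QuadForms
open scoped Matrix MatrixGroups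

theorem nondeg_plus {F : Type*} [Field F] (m : ℕ) : (polarBilin (plusForm m F)).Nondegenerate := by
  have h1 : ∀ u, (∀ v, polarBilin (plusForm m F) u v = 0) → u = 0 := fun u h => polar_plusForm_nondeg m u h
  refine ⟨h1, ?_⟩
  intro u h
  apply h1
  intro v
  have := h v
  rw [polarBilin_apply_apply] at this ⊢
  rw [polar_comm]
  exact this

theorem center_plus_bot {F : Type} [Field F] [Fintype F] (hF : Fintype.card F = 2) :
    Subgroup.center (Omega F (quadFormPlus 4 F)) = ⊥ := by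
  have h1 := LieClassical.OrthCenter.center_omega_eq_bot_char_two (Q := plusForm 4 F) (two_eq hF) (nondeg_plus 4)
    (by simp) ⟨Pi.single (Sum.inl 0) 1, by simp, by
      rw [plusForm_apply]
      simp⟩
  rw [coe_plusForm] at h1
  exact h1

/-- (P1) A subgroup of `Ω⁺8(2)` with a nontrivial normal `2`-subgroup, of order divisible by `7` but not by `49`, such that
`27` divides the index of every normal `7'`-subgroup, fixes a nonzero vector. -/
theorem p1 {F : Type} [Field F] [Fintype F] (hF : Fintype.card F = 2) {M : Subgroup (POmega F (quadFormPlus 4 F))}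
    {O : Subgroup M} [O.Normal] (h2 : IsPGroup 2 O) (h1 : O ≠ ⊥) (h7 : 7 ∣ Nat.card M) (h49 : ¬ 49 ∣ Nat.card M)
    (h27 : ∀ K : Subgroup M, K.Normal → ¬ 7 ∣ Nat.card K → 27 ∣ K.index) :
    ∃ v : Fin 4 ⊕ Fin 4 → F, v ≠ 0 ∧ ∀ g : Omega F (quadFormPlus 4 F), (g : POmega F (quadFormPlus 4 F)) ∈ M →
      (((g : isometryGroup F (quadFormPlus 4 F)) : GL (Fin 4 ⊕ Fin 4) F) : Matrix (Fin 4 ⊕ Fin 4) (Fin 4 ⊕ Fin 4) F) *ᵥ v = v := by
  classical
  have hc := center_plus_bot hF
  have hbij : Function.Bijective (QuotientGroup.mk' (Subgroup.center (Omega F (quadFormPlus 4 F)))) := by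
    refine ⟨?_, QuotientGroup.mk'_surjective _⟩
    rw [← MonoidHom.ker_eq_bot_iff, QuotientGroup.ker_mk', hc]
  let e := MulEquiv.ofBijective _ hbij
  let j : Omega F (quadFormPlus 4 F) →* Module.End F (Fin 4 ⊕ Fin 4 → F) :=
    (((Matrix.toLinAlgEquiv' : Matrix (Fin 4 ⊕ Fin 4) (Fin 4 ⊕ Fin 4) F ≃ₐ[F] _).toMulEquiv : _ →* _).comp
      (Units.coeHom (Matrix (Fin 4 ⊕ Fin 4) (Fin 4 ⊕ Fin 4) F))).comp
      ((isometryGroup F (quadFormPlus 4 F)).subtype.comp (Omega F (quadFormPlus 4 F)).subtype)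
  have hj : ∀ g v, j g v = (((g : isometryGroup F (quadFormPlus 4 F)) : GL (Fin 4 ⊕ Fin 4) F) :
      Matrix (Fin 4 ⊕ Fin 4) (Fin 4 ⊕ Fin 4) F) *ᵥ v := fun g v => rfl
  have hjinj : Function.Injective j := by
    intro a b hab
    apply Subtype.ext
    apply Subtype.ext
    apply Units.ext
    exact Matrix.toLinAlgEquiv'.injective hab
  let ρ : Representation F M (Fin 4 ⊕ Fin 4 → F) := (j.comp e.symm.toMonoidHom).comp M.subtype
  (have h_ob := fix_aux hF (plusForm 4 F) (nondeg_plus 4) (by simp) ρ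
    (hjinj.comp (e.symm.injective.comp M.subtype_injective)) (by
      intro g v
      change plusForm 4 F (j (e.symm g.1) v) = _
      simp only [hj, coe_plusForm]
      exact (ClassicalGeometry.Reflection.mem_isometryGroup_iff _ _).1 (e.symm g.1).1.2 v) h2 h1 h7 h49 h27
   revert h_ob; rintro (⟨v, hv0, hv⟩))
  refine ⟨v, hv0, fun g hg => ?_⟩
  have h3 := hv ⟨_, hg⟩
  have h4 : e.symm (QuotientGroup.mk g : POmega F (quadFormPlus 4 F)) = g := by
    rw [MulEquiv.symm_apply_eq]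
    rfl
  rw [← hj]
  change j (e.symm (QuotientGroup.mk g : POmega F (quadFormPlus 4 F))) v = v at h3
  rwa [h4] at h3

end Cfsg.Agent.H427.Fc
end

-- part: H354/Fac/RowO8
section
/-!
# `NoFac` for `Ω⁺8(2)` (helper354, S3679)
-/

set_option autoImplicit false
set_option maxRecDepth 100000

namespace Cfsg.Agent.H354.Fac.OE

open Subgroup Cfsg
open Cfsg.Agent.OrdDiv
open Cfsg.Agent.H899.CG
open Cfsg.Agent.H257.El (Known)
open Cfsg.Agent.H953.O8
open Cfsg.Agent.H884.El Cfsg.Agent.H436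

theorem o8_cands : ((cands [(2, 6), (3, 2), (5, 1)] 2880).all fun g =>
    decide (ordN g = 60) || decide (ordN g = 360)) = true := by decide +kernel

theorem o8_chk : ((cands [(2, 6), (3, 2), (5, 1)] 2880).all fun g => !decide (5 ∣ ordN g) ||
    [(5, 1), (3, 2), (3, 3), (0, 0)].any (chk 5 120 (ordN g))) = true := by decide +kernel

/-- the remaining part is `P1` -/
theorem p1 : Cfsg.Agent.H884.Oc.P1 := by
  intro M O hO h2 h1 h7 h49 h27
  exact Cfsg.Agent.H427.Fc.p1 (ZMod.card 2) h2 h1 h7 h49 h27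

/-- a maximal subgroup of index at most `k` -/
theorem card_dvd_factorial {T : Type*} [Group T] [Finite T] (hs : IsSimpleGroup T) {M : Subgroup T} (hM : M ≠ ⊤) :
    Nat.card T ∣ M.index.factorial := by
  classical
  have h1 : Function.Injective (MulAction.toPermHom T (T ⧸ M)) := by
    rw [← MonoidHom.ker_eq_bot_iff, ← Subgroup.normalCore_eq_ker]
    rcases hs.eq_bot_or_eq_top_of_normal M.normalCore inferInstance with h | h
    · exact h
    · exact absurd (top_le_iff.1 (h ▸ M.normalCore_le)) hM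
  have h2 := Subgroup.card_dvd_of_injective _ h1
  rwa [Nat.card_perm, ← Subgroup.index_eq_card] at h2

theorem ord_two_five : orderOf ((2 : ℕ) : ZMod 5) = 4 := by
  have h0 : ((2 : ℕ) : ZMod 5) = 2 := rfl
  have h2 := orderOf_eq_prime_pow (x := (2 : ZMod 5)) (p := 2) (n := 1) (by decide) (by decide)
  rw [h0, h2]
  norm_num

/-- **`Ω⁺8(2)`** -/
theorem noFac_pom42 (tab : OrderTable.{0}) (known : Known.{0}) (F : Type) [Field F] [Fintype F]
    (hF : Fintype.card F = 2) : NoFac (POmega F (quadFormPlus 4 F)) := by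
  intro S _ _ hS hna A M j hM hfac
  have hsT : IsSimpleGroup (POmega F (quadFormPlus 4 F)) := S0296.result 4 le_rfl
  have hn : Nat.card (POmega F (quadFormPlus 4 F)) = 174182400 := by
    rw [← Nat.card_congr (Cfsg.Agent.H503.El.pomCongr hF).toEquiv]
    exact Cfsg.Agent.H503.El.O8.card_t8
  have hfin : Finite (POmega F (quadFormPlus 4 F)) := Nat.finite_of_card_ne_zero (by rw [hn]; norm_num)
  have hp : Fact (Nat.Prime 5) := ⟨by norm_num⟩
  -- the order of `S`
  have hS1 : Nat.card S = 60 ∨ Nat.card S = 360 := by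
    have h1 : Nat.card S ^ 2 ∣ 2880 ^ 2 * 21 := by
      have h2 := (pow_dvd_pow (Nat.card S) hfac.two_le).trans hfac.pow_dvd_card
      rw [hn] at h2
      exact h2
    have h2 : Nat.card S ∣ 2880 := dvd_of_sq_dvd (by norm_num) (by decide +kernel) h1
    obtain ⟨g, hg, -, hgS⟩ := exists_good tab (known S) (fun h => hna ⟨⟨h⟩⟩) (l := [(2, 6), (3, 2), (5, 1)])
      (by decide +kernel) h2
    have h3 := o8_cands
    rw [List.all_eq_true] at h3
    have h4 := h3 g hg
    simp only [Bool.or_eq_true, decide_eq_true_eq] at h4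
    rwa [← hgS] at h4
  have h5 : 5 ∣ Nat.card S := by rcases hS1 with h | h <;> rw [h] <;> norm_num
  -- `S ≅ A5`
  have hF1 : Fintype.card F = 2 ^ 1 := by rw [hF, pow_one]
  have hrP : Prim 2 (4 * 1) 5 := by
    refine ⟨by norm_num, fun m => ?_, by norm_num⟩
    rw [Lib.Zsigmondy.dvd_pow_sub_one_iff (by norm_num), ord_two_five]
  have hr : PP (Nat.card F) 4 5 := by
    rw [Nat.card_eq_fintype_card, hF]
    exact ⟨by norm_num, ord_two_five⟩
  obtain rfl := fac_eq_two hr hfac h5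
  have hS2 : Nat.card S = 60 := by
    obtain ⟨ψ, hψ, -⟩ := hfac.exists_hom
    rcases struct hr Nat.prime_two le_rfl hF1 hrP hS hna ψ hψ h5 with ⟨E, i1, i2, hE, ⟨eE⟩⟩ | ⟨-, h1⟩ | h1
    · have h1 := ClassicalGeometry.PSL2Basic.card_PSL2_gcd E
      rw [hE, ← Nat.card_congr eE.toEquiv] at h1
      norm_num at h1
      omega
    · have h2 := Nat.le_of_dvd (by norm_num) h1
      omega
    · norm_num at h1
      have h2 := Nat.le_of_dvd (by norm_num) h1
      omega
  -- the index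
  have hmul := Subgroup.card_mul_index M
  rw [hn] at hmul
  have hidx := hfac.index_dvd
  rw [hS2] at hidx
  rcases Cfsg.Agent.H503.El.cgap_o8p tab known F hF M hM.1 with h | h
  · exact hfac.not_cGap h
  · have h6 : M.index = 15 ∨ M.index = 120 ∨ M.index ∈ [36, 225, 450, 1800, 3600] := by
      have h7 : ∀ x ∈ [7, 14, 21, 42, 56, 112, 168, 336, 448, 504, 896, 1344, 1512, 2520, 2688, 3584, 4032, 5040,
          6048, 7168, 10752, 12096, 20160, 21504, 28672, 32256, 40320, 48384, 86016, 96768, 161280, 181440, 258048,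
          322560, 387072, 604800, 774144, 1290240, 1451520, 4838400, 11612160],
          174182400 / x ∣ 3600 → 174182400 / x = 15 ∨ 174182400 / x = 120 ∨ 174182400 / x ∈ [36, 225, 450, 1800, 3600] := by
        decide +kernel
      have h8 : 174182400 / Nat.card M = M.index := by
        simp only [← hmul, Nat.mul_div_cancel_left _ Nat.card_pos]
      have h9 := h7 _ h
      rw [h8] at h9
      exact h9 (hidx.trans (by norm_num))
    rcases h6 with h6 | h6 | h6
    · have h7 := card_dvd_factorial hsT hM.1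
      rw [h6, hn] at h7
      revert h7
      decide +kernel
    · exact GD.false tab known (gd_pom4 F hF) hn (m := 2880) (d := 21) (by norm_num) (by norm_num)
        (by decide +kernel) (l := [(2, 6), (3, 2), (5, 1)]) (by decide +kernel) (by norm_num) (kk := 120) (by norm_num)
        (by norm_num) _ o8_chk hS hna h6 hfac
    · exact Cfsg.Agent.H884.Oc.p2 tab known p1 F hF hM h6

end Cfsg.Agent.H354.Fac.OE
end

-- part: H899/Asm/All
section
/-!
# The three rows with special maximal subgroups, complete (helper899, S3679)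
-/

set_option autoImplicit false

namespace Cfsg.Agent.H899.Asm

open Cfsg Cfsg.Agent.OrdDiv Cfsg.Agent.H899.CG

theorem all_psp (tab : OrderTable.{0}) (hK : H884.Row.KnownS)
    (F : Type) [Field F] [Fintype F] (m : ℕ) (hm : 4 ≤ m) (hme : Even m) : NoFac (PSp m F) := by
  by_cases hexc : Fintype.card F = 2 ∧ (m = 4 ∨ m = 6)
  · obtain ⟨h2, rfl | rfl⟩ := hexc
    · exact noFac_psp42 tab hK h2
    · exact H354.Fac.noFac_psp62 tab hK F h2
  · exact noFac_psp tab hK hm hme hexc

theorem all_oplus (tab : OrderTable.{0}) (hK : H884.Row.KnownS)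
    (F : Type) [Field F] [Fintype F] (m : ℕ) (hm : 4 ≤ m) (hme : Even m) : NoFac (POmega F (quadFormPlus m F)) := by
  have hq : 2 ≤ Fintype.card F := Fintype.one_lt_card
  by_cases h6 : 6 ≤ m
  · by_cases hexc : Fintype.card F = 2 ∧ m = 6
    · obtain ⟨h2, rfl⟩ := hexc
      exact H354.Fac.noFac_pom62 tab hK F h2
    · exact noFac_oplus tab hK h6 hme hexc
  · obtain rfl : m = 4 := by
      obtain ⟨k, hk⟩ := hme
      omega
    by_cases h4 : 4 ≤ Fintype.card F
    · exact noFac_oplus_four tab hK h4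
    · by_cases h3 : Fintype.card F = 3
      · exact noFac_oplus_three tab hK h3
      · exact H354.Fac.OE.noFac_pom42 tab hK F (by omega)

end Cfsg.Agent.H899.Asm
end

private theorem dce_ab6106bb3e12 : _root_.True := by
  try have : _root_.True := by simp only [_root_.Cfsg.Agent.H354.Fac.MF.a8.eq_1]
  try have : _root_.True := by simp only [_root_.Cfsg.Agent.H946.DK.Three.m1.eq_1]
  try have : _root_.True := by simp only [_root_.Cfsg.Agent.H946.DK.Three.m2.eq_1]
  try have : _root_.True := by simp only [_root_.Cfsg.Agent.H354.Fac.OE.bO.eq_1]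
  try have : _root_.True := by simp only [_root_.Cfsg.Agent.H354.Fac.MF.W.eq_1]
  try have : _root_.True := by simp only [_root_.Cfsg.Agent.H354.Fac.MF.D.eq_1]
  try have : _root_.True := by simp only [_root_.Cfsg.Agent.H354.Fac.MF.c8.eq_1]
  try have : _root_.True := by simp only [_root_.Cfsg.Agent.H354.Fac.MF.b8.eq_1]
  try have : _root_.True := by simp only [_root_.Cfsg.Agent.H354.Fac.MF.sw.eq_1]
  try have : _root_.True := by simp only [_root_.Cfsg.Agent.H354.Fac.MF.s8.eq_1]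
  exact _root_.True.intro
end
end
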